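import Mathlib
import Cfsg.Agent.EqLemmas

/-!
# TI subgroups with a complemented normalizer and many involutions

`Setup G`: `M ≠ 1` is a TI subgroup, its non-identity elements have centralisers of odd order,
`z` is an involution normalising `M`, `N(M) = M C_{N(M)}(z)`, `M` is not normal and `G` has more
than `|G : M|` involutions.

* `inverts`, `M_comm`, `invol_N`  : `z` inverts `M`; the involutions of `N` form `M z`
* `card_N`, `index_M`             : orders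
* `card_swap_le`, `card_swap_add` : at most `h` involutions map the base point to a given other point
* `full`                          : every such set has exactly `h` members
* `semiregular`, `card_D`, `swap_inverts`, `exists_z_D` : the two-point stabilisers
-/

set_option autoImplicit false

open scoped Classical
open MulAction Subgroup

namespace Cfsg.Agent.TICount

variable {G : Type*} [Group G]

theorem mul_self_of_inv {t : G} (ht : orderOf t = 2) : t * t = 1 := by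
  rw [← pow_two, ← ht, pow_orderOf_eq_one]

theorem inv_of_inv {t : G} (ht : orderOf t = 2) : t⁻¹ = t :=
  inv_eq_of_mul_eq_one_right (mul_self_of_inv ht)

theorem ne_one_of_inv {t : G} (ht : orderOf t = 2) : t ≠ 1 := fun e => by
  rw [e, orderOf_one] at ht; exact absurd ht (by norm_num)

theorem inv_of_mul_self {t : G} (h1 : t ≠ 1) (h : t * t = 1) : orderOf t = 2 :=
  orderOf_eq_prime (by rw [pow_two]; exact h) h1

theorem conj_inv {t : G} (ht : orderOf t = 2) (g : G) : orderOf (g * t * g⁻¹) = 2 :=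
  (MulEquiv.orderOf_eq (MulAut.conj g) t).trans ht

/-- In a finite group an element of odd order is determined by its square. -/
theorem eq_one_of_sq_of_odd [Finite G] {x : G} (ho : Odd (orderOf x)) (h : x * x = 1) : x = 1 := by
  have h2 : orderOf x ∣ 2 := orderOf_dvd_of_pow_eq_one (by rw [pow_two, h])
  rcases (Nat.dvd_prime Nat.prime_two).1 h2 with e | e
  · exact orderOf_eq_one_iff.1 e
  · exact absurd ho (e ▸ by decide)

variable (G) in
/-- The hypotheses. -/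
structure Setup [Finite G] where
  /-- The TI subgroup. -/
  M : Subgroup G
  /-- The involution normalising it. -/
  z : G
  ne_bot : M ≠ ⊥
  ti : ∀ g x : G, x ∈ M → x ≠ 1 → g * x * g⁻¹ ∈ M → g ∈ normalizer (M : Set G)
  z_inv : orderOf z = 2
  z_mem : z ∈ normalizer (M : Set G)
  fac : ∀ g ∈ normalizer (M : Set G),
    ∃ x ∈ M, ∃ c ∈ normalizer (M : Set G) ⊓ centralizer ({z} : Set G), g = x * c
  odd : ∀ x ∈ M, x ≠ 1 → Odd (Nat.card ↥(centralizer ({x} : Set G)))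
  not_top : normalizer (M : Set G) ≠ ⊤
  many : M.index < Nat.card {g : G // orderOf g = 2}

namespace Setup

variable [Finite G] (E : Setup G)

/-- The normalizer. -/
abbrev N : Subgroup G := normalizer (E.M : Set G)

/-- The centraliser of `z` in the normalizer. -/
abbrev C : Subgroup G := E.N ⊓ centralizer ({E.z} : Set G)

/-- `|M|`. -/
noncomputable def m : ℕ := Nat.card E.M

/-- `|C|`. -/
noncomputable def h : ℕ := Nat.card E.C

theorem M_le_N : E.M ≤ E.N := Subgroup.le_normalizer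

theorem conj_M {g x : G} (hg : g ∈ E.N) (hx : x ∈ E.M) : g * x * g⁻¹ ∈ E.M :=
  (Subgroup.mem_normalizer_iff.1 hg x).1 hx

theorem mem_C {g : G} : g ∈ E.C ↔ g ∈ E.N ∧ g * E.z = E.z * g := by
  rw [Subgroup.mem_inf, mem_centralizer_singleton_iff]

theorem z_mem_C : E.z ∈ E.C := E.mem_C.2 ⟨E.z_mem, rfl⟩

theorem zz : E.z * E.z = 1 := mul_self_of_inv E.z_inv

theorem z_inv' : E.z⁻¹ = E.z := inv_of_inv E.z_inv

theorem commute_cancel {g : G} (h : g * E.z = E.z * g) : E.z * g * E.z = g := by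
  rw [← h, mul_assoc, E.zz, mul_one]

theorem odd_of_commute {x g : G} (hx : x ∈ E.M) (hx1 : x ≠ 1) (hg : g * x = x * g) :
    Odd (orderOf g) := by
  refine Odd.of_dvd_nat (E.odd x hx hx1) ?_
  rw [← Subgroup.orderOf_mk (H := centralizer ({x} : Set G)) g (mem_centralizer_singleton_iff.2 hg)]
  exact orderOf_dvd_natCard _

theorem inv_not_commute {x g : G} (hx : x ∈ E.M) (hx1 : x ≠ 1) (hg : orderOf g = 2) :
    g * x ≠ x * g := fun e => by
  have := E.odd_of_commute hx hx1 e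
  rw [hg] at this
  exact absurd this (by decide)

theorem odd_M {x : G} (hx : x ∈ E.M) : Odd (orderOf x) := by
  rcases eq_or_ne x 1 with rfl | h1
  · simp
  · exact E.odd_of_commute hx h1 rfl

theorem eq_one_of_sq {x : G} (hx : x ∈ E.M) (h : x * x = 1) : x = 1 :=
  eq_one_of_sq_of_odd (E.odd_M hx) h

/-- Every involution normalising `M` inverts it. -/
theorem invol_inverts {y x : G} (hy : orderOf y = 2) (hyN : y ∈ E.N) (hx : x ∈ E.M) :
    y * x * y⁻¹ = x⁻¹ := by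
  let φ : E.M →* E.M :=
    { toFun := fun w => ⟨y * w * y⁻¹, E.conj_M hyN w.2⟩
      map_one' := Subtype.ext (by simp)
      map_mul' := fun a b => Subtype.ext (by simp [mul_assoc]) }
  have hfp : MonoidHom.FixedPointFree φ := by
    intro w hw
    by_contra hw1
    have e : y * (w : G) * y⁻¹ = w := congrArg Subtype.val hw
    exact E.inv_not_commute w.2 (fun e' => hw1 (Subtype.ext e')) hy (mul_inv_eq_iff_eq_mul.1 e)
  have hinvol : Function.Involutive φ := by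
    intro w
    refine Subtype.ext ?_
    show y * (y * (w : G) * y⁻¹) * y⁻¹ = w
    rw [show y * (y * (w : G) * y⁻¹) * y⁻¹ = (y * y) * w * (y * y)⁻¹ by group, mul_self_of_inv hy]
    group
  have h2 := congrFun (hfp.coe_eq_inv_of_involutive hinvol) ⟨x, hx⟩
  exact congrArg Subtype.val h2

theorem inverts {x : G} (hx : x ∈ E.M) : E.z * x * E.z⁻¹ = x⁻¹ := E.invol_inverts E.z_inv E.z_mem hx

theorem z_mul {x : G} (hx : x ∈ E.M) : E.z * x = x⁻¹ * E.z := by
  rw [← E.inverts hx]; group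

theorem M_comm {x y : G} (hx : x ∈ E.M) (hy : y ∈ E.M) : x * y = y * x := by
  have h1 := E.inverts (E.M.mul_mem hx hy)
  have h2 : E.z * (x * y) * E.z⁻¹ = (E.z * x * E.z⁻¹) * (E.z * y * E.z⁻¹) := by group
  rw [h2, E.inverts hx, E.inverts hy, ← _root_.mul_inv_rev, _root_.inv_inj] at h1
  exact h1.symm

theorem C_inf_M {x : G} (hx : x ∈ E.C) (hxM : x ∈ E.M) : x = 1 := by
  by_contra h1
  exact E.inv_not_commute hxM h1 E.z_inv (E.mem_C.1 hx).2.symm

theorem invol_N {y : G} (hy : orderOf y = 2) (hyN : y ∈ E.N) : ∃ x ∈ E.M, y = x * E.z := by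
  obtain ⟨x, hx, c, hc, e⟩ := E.fac _ (E.N.mul_mem hyN E.z_mem)
  -- `y z = x c` centralises `M` and is inverted by `z`
  have hcc := (E.mem_C.1 hc).2
  have hw : ∀ w ∈ E.M, (y * E.z) * w = w * (y * E.z) := by
    intro w hw
    have h1 := E.invol_inverts hy hyN (E.conj_M E.z_mem hw)
    rw [E.inverts hw] at h1
    calc (y * E.z) * w = y * (E.z * w * E.z⁻¹) * E.z := by group
      _ = y * w⁻¹ * y⁻¹ * (y * E.z) := by rw [E.inverts hw]; group
      _ = w * (y * E.z) := by rw [show y * w⁻¹ * y⁻¹ = w from h1 ▸ inv_inv w]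
  obtain ⟨w, hwM, hw1⟩ := E.M.ne_bot_iff_exists_ne_one.1 E.ne_bot |> fun ⟨a, ha⟩ =>
    (⟨a.1, a.2, fun e => ha (Subtype.ext e)⟩ : ∃ w ∈ E.M, w ≠ 1)
  have hcw : ∀ w ∈ E.M, c * w = w * c := by
    intro w hw'
    have h1 := hw w hw'
    rw [e, mul_assoc, ← mul_assoc w x c, ← E.M_comm hx hw', mul_assoc x w c] at h1
    exact mul_left_cancel h1
  have hc1 : c = 1 := by
    refine eq_one_of_sq_of_odd (E.odd_of_commute hwM hw1 (hcw w hwM)) ?_
    have h1 : E.z * (y * E.z) * E.z⁻¹ = (y * E.z)⁻¹ := by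
      rw [_root_.mul_inv_rev, inv_of_inv hy, E.z_inv', mul_assoc E.z, mul_assoc y, E.zz, mul_one]
    rw [e] at h1
    have h2 : E.z * (x * c) * E.z⁻¹ = x⁻¹ * c := by
      rw [show E.z * (x * c) * E.z⁻¹ = (E.z * x * E.z⁻¹) * (E.z * c * E.z⁻¹) by group, E.inverts hx,
        show E.z * c * E.z⁻¹ = c by rw [← hcc, mul_inv_cancel_right]]
    rw [h2, _root_.mul_inv_rev] at h1
    have h3 : x⁻¹ * c = c * x⁻¹ := (hcw _ (E.M.inv_mem hx)).symm
    rw [h3] at h1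
    -- `c x⁻¹ = c⁻¹ x⁻¹`
    have h4 : c = c⁻¹ := mul_right_cancel h1
    nth_rw 2 [h4]
    rw [mul_inv_cancel]
  refine ⟨x, hx, ?_⟩
  rw [hc1, mul_one] at e
  rw [← e, mul_assoc, E.zz, mul_one]

theorem inv_mul_z {x : G} (hx : x ∈ E.M) : orderOf (x * E.z) = 2 := by
  refine inv_of_mul_self (fun e => ?_) ?_
  · have hz : E.z ∈ E.M := by rw [eq_inv_of_mul_eq_one_right e]; exact E.M.inv_mem hx
    exact ne_one_of_inv E.z_inv (E.C_inf_M E.z_mem_C hz)
  · rw [mul_assoc, ← mul_assoc E.z, E.z_mul hx, mul_assoc, E.zz, mul_one, mul_inv_cancel]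

/-- The involutions of `N` are conjugate under `M`. -/
theorem exists_root {x : G} (hx : x ∈ E.M) : ∃ r ∈ E.M, r * E.z * r⁻¹ = x * E.z := by
  obtain ⟨k, hk⟩ := E.odd_M hx
  refine ⟨x ^ (k + 1), E.M.pow_mem hx _, ?_⟩
  rw [mul_assoc, E.z_mul (E.M.inv_mem (E.M.pow_mem hx _)), inv_inv, ← mul_assoc, ← pow_add,
    show k + 1 + (k + 1) = 2 * k + 1 + 1 by ring, ← hk, pow_succ, pow_orderOf_eq_one, one_mul]

theorem invol_conj {y : G} (hy : orderOf y = 2) (hyN : y ∈ E.N) :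
    ∃ r ∈ E.M, r * E.z * r⁻¹ = y := by
  obtain ⟨x, hx, rfl⟩ := E.invol_N hy hyN
  exact E.exists_root hx

theorem C_invol {y : G} (hy : orderOf y = 2) (hyC : y ∈ E.C) : y = E.z := by
  obtain ⟨x, hx, rfl⟩ := E.invol_N hy (E.mem_C.1 hyC).1
  have : x ∈ E.C := by simpa using E.C.mul_mem hyC (E.C.inv_mem E.z_mem_C)
  rw [E.C_inf_M this hx, one_mul]

theorem card_N : Nat.card E.N = E.m * E.h := by
  unfold m h
  rw [← Nat.card_prod]
  refine (Nat.card_eq_of_bijective (fun p : E.M × E.C =>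
    (⟨p.1.1 * p.2.1, E.N.mul_mem (E.M_le_N p.1.2) (E.mem_C.1 p.2.2).1⟩ : E.N)) ⟨?_, ?_⟩).symm
  · rintro ⟨x, c⟩ ⟨x', c'⟩ e
    have e' : (x : G) * c = x' * c' := congrArg Subtype.val e
    have h1 : (x' : G)⁻¹ * x = c' * (c : G)⁻¹ := by
      rw [eq_mul_inv_iff_mul_eq, mul_assoc, e', inv_mul_cancel_left]
    have h2 : (x' : G)⁻¹ * x = 1 :=
      E.C_inf_M (h1 ▸ E.C.mul_mem c'.2 (E.C.inv_mem c.2)) (E.M.mul_mem (E.M.inv_mem x'.2) x.2)
    have hx : x = x' := Subtype.ext (inv_mul_eq_one.1 h2).symm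
    subst hx
    rw [Prod.mk.injEq]
    exact ⟨rfl, Subtype.ext (mul_left_cancel e')⟩
  · rintro ⟨g, hg⟩
    obtain ⟨x, hx, c, hc, rfl⟩ := E.fac g hg
    exact ⟨(⟨x, hx⟩, ⟨c, hc⟩), rfl⟩

theorem card_G : Nat.card G = E.m * (E.N.index * E.h) := by
  rw [← Subgroup.card_mul_index E.N, E.card_N]
  ring

theorem index_M : E.M.index = E.N.index * E.h := by
  have h1 := Subgroup.card_mul_index E.M
  rw [E.card_G] at h1
  exact Nat.eq_of_mul_eq_mul_left Nat.card_pos h1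

theorem even_h : Even E.h := by
  have h1 : (2 : ℕ) = orderOf (⟨E.z, E.z_mem_C⟩ : E.C) := by rw [Subgroup.orderOf_mk, E.z_inv]
  exact even_iff_two_dvd.2 (h1 ▸ orderOf_dvd_natCard _)

theorem h_pos : 0 < E.h := Nat.card_pos

theorem odd_m : Odd E.m := by
  rcases Nat.even_or_odd E.m with he | ho
  · obtain ⟨x, hx⟩ := exists_prime_orderOf_dvd_card' (G := E.M) 2 (even_iff_two_dvd.1 he)
    have := E.odd_M x.2
    rw [Subgroup.orderOf_coe, hx] at this
    exact absurd this (by decide)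
  · exact ho

theorem three_le_m : 3 ≤ E.m := by
  have h1 : 1 < E.m := by
    rw [m, Finite.one_lt_card_iff_nontrivial, nontrivial_iff_ne_bot]; exact E.ne_bot
  obtain ⟨k, hk⟩ := E.odd_m
  omega

/-! ### The action on the conjugates of `M` -/

/-- The base point. -/
abbrev pt : G ⧸ E.N := ((1 : G) : G ⧸ E.N)

theorem stab_pt {g : G} : g • E.pt = E.pt ↔ g ∈ E.N := by
  rw [Quotient.smul_mk, QuotientGroup.eq, smul_eq_mul, mul_one, mul_one, inv_mem_iff]

theorem stabilizer_pt : stabilizer G E.pt = E.N := Subgroup.ext fun _ => E.stab_pt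

theorem exists_smul_pt (c : G ⧸ E.N) : ∃ g : G, g • E.pt = c := by
  obtain ⟨g, rfl⟩ := Quotient.exists_rep c
  exact ⟨g, by rw [Quotient.smul_mk, smul_eq_mul, mul_one]⟩

theorem fix_iff {t g : G} : t • (g • E.pt) = g • E.pt ↔ g⁻¹ * t * g ∈ E.N := by
  rw [← E.stab_pt, mul_smul, mul_smul, inv_smul_eq_iff]

theorem card_points : Nat.card (G ⧸ E.N) = E.N.index := rfl

/-- The stabiliser of the base point and `b`. -/
def D (b : G ⧸ E.N) : Subgroup G := stabilizer G E.pt ⊓ stabilizer G b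

theorem mem_D {b : G ⧸ E.N} {g : G} : g ∈ E.D b ↔ g ∈ E.N ∧ g • b = b := by
  rw [D, Subgroup.mem_inf, E.stabilizer_pt, mem_stabilizer_iff]

/-- `M` inside the stabiliser of `b`. -/
def A (b : G ⧸ E.N) : Subgroup G := E.M ⊓ stabilizer G b

theorem mem_A {b : G ⧸ E.N} {g : G} : g ∈ E.A b ↔ g ∈ E.M ∧ g • b = b := Iff.rfl

/-- `M` is a normal subgroup of `N`. -/
abbrev MN : Subgroup E.N := E.M.subgroupOf E.N

instance MN_normal : E.MN.Normal := (normal_subgroupOf_iff_le_normalizer E.M_le_N).2 le_rfl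

/-- The quotient `N / M`. -/
abbrev Q := ↥E.N ⧸ E.MN

theorem card_Q : Nat.card E.Q = E.h := by
  have h1 := Subgroup.card_mul_index E.MN
  rw [Nat.card_congr (subgroupOfEquivOfLe E.M_le_N).toEquiv, E.card_N] at h1
  exact Nat.eq_of_mul_eq_mul_left Nat.card_pos h1

theorem mk_eq_iff {a b : E.N} : (a : E.Q) = (b : E.Q) ↔ (a : G)⁻¹ * b ∈ E.M := by
  rw [QuotientGroup.eq, mem_subgroupOf]
  rfl

theorem card_A_le {b : G ⧸ E.N} (hb : b ≠ E.pt) : Nat.card (E.A b) ≤ E.h := by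
  rw [← E.card_Q]
  obtain ⟨g, rfl⟩ := E.exists_smul_pt b
  refine Nat.card_le_card_of_injective
    (fun a : E.A (g • E.pt) => ((⟨g⁻¹ * a * g, E.fix_iff.1 a.2.2⟩ : E.N) : E.Q)) ?_
  intro a a' e
  have h1 : g⁻¹ * ((a : G)⁻¹ * a') * g ∈ E.M := by
    have := E.mk_eq_iff.1 e
    simpa [_root_.mul_inv_rev, mul_assoc] using this
  by_contra hne
  refine hb (E.stab_pt.2 (E.ti g _ h1 (fun e' => hne (Subtype.ext ?_)) ?_))
  · have h2 : (a : G)⁻¹ * a' = 1 := by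
      simpa [mul_assoc] using congrArg (fun w => g * w * g⁻¹) e'
    exact inv_mul_eq_one.1 h2
  · have h2 : g * (g⁻¹ * ((a : G)⁻¹ * a') * g) * g⁻¹ = (a : G)⁻¹ * a' := by group
    rw [h2]
    exact E.M.mul_mem (E.M.inv_mem a.2.1) a'.2.1

variable [Fintype G]

/-- The involutions mapping the base point to `b`. -/
noncomputable def S (b : G ⧸ E.N) : Finset G :=
  Finset.univ.filter fun t => orderOf t = 2 ∧ t • E.pt = b

theorem mem_S {b : G ⧸ E.N} {t : G} : t ∈ E.S b ↔ orderOf t = 2 ∧ t • E.pt = b := by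
  simp [S]

theorem swap_back {b : G ⧸ E.N} {t : G} (ht : t ∈ E.S b) : t • b = E.pt := by
  obtain ⟨h1, h2⟩ := E.mem_S.1 ht
  rw [← h2, ← mul_smul, mul_self_of_inv h1, one_smul]

theorem swap_not_N {b : G ⧸ E.N} (hb : b ≠ E.pt) {t : G} (ht : t ∈ E.S b) : t ∉ E.N := fun h => by
  obtain ⟨-, h2⟩ := E.mem_S.1 ht
  exact hb (h2 ▸ E.stab_pt.2 h)

theorem swap_M {b : G ⧸ E.N} (hb : b ≠ E.pt) {t : G} (ht : t ∈ E.S b) {a : G} (ha : a ∈ E.M)
    (hta : t * a * t⁻¹ ∈ E.M) : a = 1 := by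
  by_contra h1
  exact E.swap_not_N hb ht (E.ti t a ha h1 hta)

theorem swap_conj_D {b : G ⧸ E.N} {t : G} (ht : t ∈ E.S b) {d : G} (hd : d ∈ E.D b) :
    t * d * t⁻¹ ∈ E.D b := by
  obtain ⟨h1, h2⟩ := E.mem_S.1 ht
  obtain ⟨hdN, hdb⟩ := E.mem_D.1 hd
  rw [inv_of_inv h1]
  refine E.mem_D.2 ⟨E.stab_pt.1 ?_, ?_⟩
  · rw [mul_smul, mul_smul, h2, hdb, E.swap_back ht]
  · rw [mul_smul, mul_smul, E.swap_back ht, E.stab_pt.2 hdN, h2]

theorem swap_mul_mem {b : G ⧸ E.N} {t s : G} (ht : t ∈ E.S b) (hs : s ∈ E.S b) : t * s ∈ E.D b := by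
  obtain ⟨-, h2⟩ := E.mem_S.1 ht
  obtain ⟨-, h4⟩ := E.mem_S.1 hs
  refine E.mem_D.2 ⟨E.stab_pt.1 ?_, ?_⟩
  · rw [mul_smul, h4, E.swap_back ht]
  · rw [mul_smul, E.swap_back hs, h2]

theorem swap_inv_mul {b : G ⧸ E.N} {t s : G} (ht : t ∈ E.S b) (hs : s ∈ E.S b) :
    t * (t * s) * t⁻¹ = (t * s)⁻¹ := by
  rw [_root_.mul_inv_rev, inv_of_inv (E.mem_S.1 hs).1, ← mul_assoc t t s,
    mul_self_of_inv (E.mem_S.1 ht).1, one_mul]

/-- Mapping a swap to the coset of its product with a fixed one. -/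
noncomputable def swapMap {b : G ⧸ E.N} {t : G} (ht : t ∈ E.S b) (s : E.S b) : E.Q :=
  ((⟨t * (s : G), (E.mem_D.1 (E.swap_mul_mem ht s.2)).1⟩ : E.N) : E.Q)

theorem swapMap_injective {b : G ⧸ E.N} (hb : b ≠ E.pt) {t : G} (ht : t ∈ E.S b) :
    Function.Injective (E.swapMap ht) := by
  intro s s' e
  have ha : (t * (s : G))⁻¹ * (t * s') ∈ E.M := E.mk_eq_iff.1 e
  have hdN := (E.mem_D.1 (E.swap_mul_mem ht s.2)).1
  have i1 := E.swap_inv_mul ht s.2
  have i2 := E.swap_inv_mul ht s'.2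
  generalize hd : t * (s : G) = d at ha hdN i1
  generalize hd' : t * (s' : G) = d' at ha i2
  have hkey : t * (d⁻¹ * d') * t⁻¹ ∈ E.M := by
    have h1 : t * (d⁻¹ * d') * t⁻¹ = d * (d⁻¹ * d')⁻¹ * d⁻¹ := by
      rw [show t * (d⁻¹ * d') * t⁻¹ = (t * d * t⁻¹)⁻¹ * (t * d' * t⁻¹) by group, i1, i2]
      group
    rw [h1]
    exact E.conj_M hdN (E.M.inv_mem ha)
  have h1 := E.swap_M hb ht ha hkey
  rw [inv_mul_eq_one] at h1
  exact Subtype.ext (mul_left_cancel (hd.trans (h1.trans hd'.symm)))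

theorem card_swap_le {b : G ⧸ E.N} (hb : b ≠ E.pt) : (E.S b).card ≤ E.h := by
  rcases (E.S b).eq_empty_or_nonempty with h | ⟨t, ht⟩
  · rw [h]; simp
  · rw [← E.card_Q, ← Nat.card_eq_finsetCard]
    exact Nat.card_le_card_of_injective _ (E.swapMap_injective hb ht)

theorem no_invol_D {b : G ⧸ E.N} (hb : b ≠ E.pt) {t : G} (ht : t ∈ E.S b) {y : G}
    (hy : orderOf y = 2) (hyD : y ∈ E.D b) {a : G} (ha : a ∈ E.A b) : a = 1 := by
  obtain ⟨ht2, -⟩ := E.mem_S.1 ht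
  have hy' := E.swap_conj_D ht hyD
  have haD : a ∈ E.D b := E.mem_D.2 ⟨E.M_le_N ha.1, ha.2⟩
  have hu : t * a * t⁻¹ ∈ E.N := (E.mem_D.1 (E.swap_conj_D ht haD)).1
  -- `y` inverts `u = t a t⁻¹`
  have h1 := E.invol_inverts (conj_inv hy t) (E.mem_D.1 hy').1 ha.1
  have hinv : y * (t * a * t⁻¹) * y⁻¹ = (t * a * t⁻¹)⁻¹ := by
    have e1 : t * y * t⁻¹ = t⁻¹ * y * t := by rw [inv_of_inv ht2]
    rw [e1] at h1
    calc y * (t * a * t⁻¹) * y⁻¹ = t * (t⁻¹ * y * t * a * (t⁻¹ * y * t)⁻¹) * t⁻¹ := by group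
      _ = (t * a * t⁻¹)⁻¹ := by rw [h1]; group
  -- the commutator lies in `M`
  obtain ⟨x, hx, rfl⟩ := E.invol_N hy (E.mem_D.1 hyD).1
  obtain ⟨x', hx', c, hc, e⟩ := E.fac _ hu
  have hcomm : (x * E.z) * (x' * c) * (x * E.z)⁻¹ * (x' * c)⁻¹ ∈ E.M := by
    have hc' : E.z * c * E.z⁻¹ = c := by rw [← (E.mem_C.1 hc).2, mul_inv_cancel_right]
    have : (x * E.z) * (x' * c) * (x * E.z)⁻¹ * (x' * c)⁻¹ =
        x * x'⁻¹ * (c * x⁻¹ * c⁻¹) * x'⁻¹ := by
      rw [_root_.mul_inv_rev, show x * E.z * (x' * c) * (E.z⁻¹ * x⁻¹) * (x' * c)⁻¹ =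
        x * (E.z * x' * E.z⁻¹) * (E.z * c * E.z⁻¹) * x⁻¹ * (x' * c)⁻¹ by group, E.inverts hx', hc']
      group
    rw [this]
    exact E.M.mul_mem (E.M.mul_mem (E.M.mul_mem hx (E.M.inv_mem hx'))
      (E.conj_M (E.mem_C.1 hc).1 (E.M.inv_mem hx))) (E.M.inv_mem hx')
  rw [← e, hinv] at hcomm
  have hodd : Odd (orderOf (t * a * t⁻¹)) := by
    rw [show t * a * t⁻¹ = MulAut.conj t a from rfl, MulEquiv.orderOf_eq]; exact E.odd_M ha.1
  obtain ⟨k, hk⟩ := hodd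
  refine E.swap_M hb ht ha.1 ?_
  have h2 : t * a * t⁻¹ = ((t * a * t⁻¹)⁻¹ * (t * a * t⁻¹)⁻¹)⁻¹ ^ (k + 1) := by
    rw [← _root_.mul_inv_rev, inv_inv, ← pow_two, ← pow_mul,
      show 2 * (k + 1) = 2 * k + 1 + 1 by ring, ← hk, pow_succ, pow_orderOf_eq_one, one_mul]
  rw [h2]
  exact E.M.pow_mem (E.M.inv_mem hcomm) _

theorem card_swap_add {b : G ⧸ E.N} (hb : b ≠ E.pt) (hA : E.A b ≠ ⊥) {t : G} (ht : t ∈ E.S b) :
    (E.S b).card + Nat.card (E.A b) ≤ E.h := by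
  obtain ⟨a0, ha0, ha01⟩ : ∃ a ∈ E.A b, a ≠ 1 := by
    obtain ⟨a, ha⟩ := (E.A b).ne_bot_iff_exists_ne_one.1 hA
    exact ⟨a, a.2, fun e => ha (Subtype.ext e)⟩
  have hAD : ∀ a : E.A b, t * (a : G) * t⁻¹ ∈ E.D b := fun a =>
    E.swap_conj_D ht (E.mem_D.2 ⟨E.M_le_N a.2.1, a.2.2⟩)
  let g : E.A b → E.Q := fun a =>
    ((⟨E.z * (t * a * t⁻¹), E.N.mul_mem E.z_mem (E.mem_D.1 (hAD a)).1⟩ : E.N) : E.Q)
  rw [← Nat.card_eq_finsetCard, ← Nat.card_sum, ← E.card_Q]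
  refine Nat.card_le_card_of_injective (Sum.elim (E.swapMap ht) g) ?_
  refine Function.Injective.sumElim (E.swapMap_injective hb ht) ?_ ?_
  · intro a a' e
    have h1 : t * ((a : G)⁻¹ * a') * t⁻¹ ∈ E.M := by
      simpa [_root_.mul_inv_rev, mul_assoc] using E.mk_eq_iff.1 e
    have h2 := E.swap_M hb ht (E.M.mul_mem (E.M.inv_mem a.2.1) a'.2.1) h1
    exact Subtype.ext (inv_mul_eq_one.1 h2)
  · intro s a e
    -- an element `y` of `D` in the coset `M z`
    have h1 : (t * (s : G))⁻¹ * (E.z * (t * a * t⁻¹)) ∈ E.M := E.mk_eq_iff.1 e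
    have hy : t * (s : G) * (t * a * t⁻¹)⁻¹ ∈ E.D b :=
      (E.D b).mul_mem (E.swap_mul_mem ht s.2) ((E.D b).inv_mem (hAD a))
    have h2 : E.z * (t * (s : G) * (t * a * t⁻¹)⁻¹)⁻¹ ∈ E.M := by
      have h3 := E.conj_M (E.mem_D.1 (E.swap_mul_mem ht s.2)).1 h1
      rw [show (t * (s : G)) * ((t * (s : G))⁻¹ * (E.z * (t * a * t⁻¹))) * (t * (s : G))⁻¹ =
        E.z * (t * (s : G) * (t * a * t⁻¹)⁻¹)⁻¹ by group] at h3
      exact h3
    generalize t * (s : G) * (t * a * t⁻¹)⁻¹ = y at hy h2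
    have h3 : y = (E.z * y⁻¹)⁻¹ * E.z := by group
    have h4 : orderOf y = 2 := by rw [h3]; exact E.inv_mul_z (E.M.inv_mem h2)
    exact ha01 (E.no_invol_D hb ht h4 hy ha0)

theorem smul_S {b : G ⧸ E.N} {x t : G} (hx : x ∈ E.N) (ht : t ∈ E.S b) :
    x * t * x⁻¹ ∈ E.S (x • b) := by
  obtain ⟨h1, h2⟩ := E.mem_S.1 ht
  exact E.mem_S.2 ⟨conj_inv h1 x, by
    rw [mul_smul, mul_smul, inv_smul_eq_iff.2 (E.stab_pt.2 hx).symm, h2]⟩

theorem card_S_smul (b : G ⧸ E.N) {x : G} (hx : x ∈ E.N) : (E.S (x • b)).card = (E.S b).card := by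
  refine (Finset.card_bij (fun t _ => x * t * x⁻¹) (fun t ht => E.smul_S hx ht)
    (fun a _ c _ e => mul_left_cancel (mul_right_cancel e)) fun u hu => ⟨x⁻¹ * u * x, ?_, by group⟩).symm
  have := E.smul_S (E.N.inv_mem hx) hu
  rwa [inv_smul_smul, inv_inv] at this

theorem card_S_pt : (E.S E.pt).card = E.m := by
  rw [m, ← Nat.card_eq_finsetCard]
  refine (Nat.card_eq_of_bijective
    (fun x : E.M => (⟨(x : G) * E.z, E.mem_S.2 ⟨E.inv_mul_z x.2,
      E.stab_pt.2 (E.N.mul_mem (E.M_le_N x.2) E.z_mem)⟩⟩ : E.S E.pt))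
    ⟨fun x y e => Subtype.ext (mul_right_cancel (congrArg Subtype.val e)), ?_⟩).symm
  rintro ⟨t, ht⟩
  obtain ⟨h1, h2⟩ := E.mem_S.1 ht
  obtain ⟨x, hx, rfl⟩ := E.invol_N h1 (E.stab_pt.1 h2)
  exact ⟨⟨x, hx⟩, rfl⟩

theorem card_invol [Fintype (G ⧸ E.N)] :
    Nat.card {g : G // orderOf g = 2} = E.m + ∑ b ∈ Finset.univ.erase E.pt, (E.S b).card := by
  rw [← E.card_S_pt, Finset.add_sum_erase Finset.univ (fun b => (E.S b).card) (Finset.mem_univ _),
    Nat.card_eq_fintype_card, Fintype.card_subtype,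
    Finset.card_eq_sum_card_fiberwise (f := fun t : G => t • E.pt) (t := Finset.univ)
      (fun t _ => Finset.mem_univ _)]
  refine Finset.sum_congr rfl fun b _ => congrArg Finset.card ?_
  ext t
  simp [S]

theorem full {b : G ⧸ E.N} (hb : b ≠ E.pt) : (E.S b).card = E.h := by
  haveI : Fintype (G ⧸ E.N) := Fintype.ofFinite _
  refine le_antisymm (E.card_swap_le hb) ?_
  by_contra hlt
  push Not at hlt
  -- the deficit of `b`
  have hd : Nat.card (E.A b) + (E.S b).card ≤ E.h := by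
    rcases (E.S b).eq_empty_or_nonempty with h | ⟨t, ht⟩
    · rw [h, Finset.card_empty, add_zero]; exact E.card_A_le hb
    · by_cases hA : E.A b = ⊥
      · rw [hA, Subgroup.card_bot]; omega
      · rw [add_comm]; exact E.card_swap_add hb hA ht
  set O : Finset (G ⧸ E.N) := Finset.univ.filter fun c => ∃ x ∈ E.M, x • b = c with hO
  have hOpt : O ⊆ Finset.univ.erase E.pt := by
    intro c hc
    obtain ⟨x, hx, rfl⟩ := (Finset.mem_filter.1 hc).2
    refine Finset.mem_erase.2 ⟨fun e => hb ?_, Finset.mem_univ _⟩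
    rw [eq_inv_smul_iff.2 e, E.stab_pt.2 (E.N.inv_mem (E.M_le_N hx))]
  have hOcard : O.card * Nat.card (E.A b) = E.m := by
    have h1 := Subgroup.card_mul_index (stabilizer E.M b)
    rw [index_stabilizer] at h1
    have h2 : Nat.card (stabilizer E.M b) = Nat.card (E.A b) := Nat.card_congr
      { toFun := fun x => ⟨(x : E.M), (x : E.M).2, x.2⟩
        invFun := fun x => ⟨⟨x, x.2.1⟩, x.2.2⟩
        left_inv := fun _ => rfl
        right_inv := fun _ => rfl }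
    have h3 : (orbit E.M b).ncard = O.card := by
      rw [show orbit E.M b = (O : Set (G ⧸ E.N)) by
        ext c
        rw [Finset.mem_coe, hO, Finset.mem_filter, mem_orbit_iff]
        exact ⟨fun ⟨x, e⟩ => ⟨Finset.mem_univ _, x, x.2, e⟩, fun ⟨_, x, hx, e⟩ => ⟨⟨x, hx⟩, e⟩⟩,
        Set.ncard_coe_finset]
    rw [h2, h3, mul_comm] at h1
    exact h1
  have hdef : E.m ≤ ∑ c ∈ Finset.univ.erase E.pt, (E.h - (E.S c).card) := by
    calc E.m = ∑ _c ∈ O, Nat.card (E.A b) := by rw [Finset.sum_const, smul_eq_mul, hOcard]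
      _ ≤ ∑ c ∈ O, (E.h - (E.S c).card) := by
          refine Finset.sum_le_sum fun c hc => ?_
          obtain ⟨x, hx, rfl⟩ := (Finset.mem_filter.1 hc).2
          rw [E.card_S_smul b (E.M_le_N hx)]
          omega
      _ ≤ _ := Finset.sum_le_sum_of_subset hOpt
  have hsum : ∑ c ∈ Finset.univ.erase E.pt, (E.h - (E.S c).card) +
      ∑ c ∈ Finset.univ.erase E.pt, (E.S c).card = (E.N.index - 1) * E.h := by
    rw [← Finset.sum_add_distrib, Finset.sum_congr rfl (fun c hc => ?_), Finset.sum_const,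
      smul_eq_mul, Finset.card_erase_of_mem (Finset.mem_univ _), Finset.card_univ,
      ← Nat.card_eq_fintype_card, E.card_points]
    exact Nat.sub_add_cancel (E.card_swap_le (Finset.mem_erase.1 hc).1)
  have hmany := E.many
  rw [E.index_M, E.card_invol] at hmany
  have hn : (E.N.index - 1) * E.h ≤ E.N.index * E.h := Nat.mul_le_mul_right _ (Nat.sub_le _ _)
  omega

theorem exists_swap {b : G ⧸ E.N} (hb : b ≠ E.pt) : ∃ t, t ∈ E.S b :=
  Finset.card_pos.1 (by rw [E.full hb]; exact E.h_pos)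

theorem semiregular {b : G ⧸ E.N} (hb : b ≠ E.pt) {x : G} (hx : x ∈ E.M) (hxb : x • b = b) :
    x = 1 := by
  obtain ⟨t, ht⟩ := E.exists_swap hb
  by_contra h1
  have hA : E.A b ≠ ⊥ := fun e => h1 (Subgroup.mem_bot.1 (e ▸ (⟨hx, hxb⟩ : x ∈ E.A b)))
  have := E.card_swap_add hb hA ht
  rw [E.full hb] at this
  have : 0 < Nat.card (E.A b) := Nat.card_pos
  omega

theorem D_mk_injective {b : G ⧸ E.N} (hb : b ≠ E.pt) :
    Function.Injective fun d : E.D b => ((⟨(d : G), (E.mem_D.1 d.2).1⟩ : E.N) : E.Q) := by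
  intro d d' e
  refine Subtype.ext (inv_mul_eq_one.1 (E.semiregular hb (E.mk_eq_iff.1 e) ?_))
  exact (E.mem_D.1 ((E.D b).mul_mem ((E.D b).inv_mem d.2) d'.2)).2

theorem card_D {b : G ⧸ E.N} (hb : b ≠ E.pt) : Nat.card (E.D b) = E.h := by
  refine le_antisymm ?_ ?_
  · rw [← E.card_Q]; exact Nat.card_le_card_of_injective _ (E.D_mk_injective hb)
  · obtain ⟨t, ht⟩ := E.exists_swap hb
    rw [← E.full hb, ← Nat.card_eq_finsetCard]
    refine Nat.card_le_card_of_injective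
      (fun s : E.S b => (⟨t * (s : G), E.swap_mul_mem ht s.2⟩ : E.D b)) fun s s' e => ?_
    exact Subtype.ext (mul_left_cancel (congrArg Subtype.val e))

theorem swap_inverts {b : G ⧸ E.N} (hb : b ≠ E.pt) {t : G} (ht : t ∈ E.S b) {d : G}
    (hd : d ∈ E.D b) : t * d * t⁻¹ = d⁻¹ := by
  have hbij : Function.Bijective
      (fun s : E.S b => (⟨t * (s : G), E.swap_mul_mem ht s.2⟩ : E.D b)) :=
    (Nat.bijective_iff_injective_and_card _).2
      ⟨fun s s' e => Subtype.ext (mul_left_cancel (congrArg Subtype.val e)),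
        by rw [Nat.card_eq_finsetCard, E.full hb, E.card_D hb]⟩
  obtain ⟨s, hs⟩ := hbij.2 ⟨d, hd⟩
  rw [← show t * (s : G) = d from congrArg Subtype.val hs]
  exact E.swap_inv_mul ht s.2

theorem D_comm {b : G ⧸ E.N} (hb : b ≠ E.pt) {d e : G} (hd : d ∈ E.D b) (he : e ∈ E.D b) :
    d * e = e * d := by
  obtain ⟨t, ht⟩ := E.exists_swap hb
  have h1 := E.swap_inverts hb ht ((E.D b).mul_mem hd he)
  rw [show t * (d * e) * t⁻¹ = (t * d * t⁻¹) * (t * e * t⁻¹) by group, E.swap_inverts hb ht hd,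
    E.swap_inverts hb ht he, ← _root_.mul_inv_rev, _root_.inv_inj] at h1
  exact h1.symm

theorem exists_z_D {b : G ⧸ E.N} (hb : b ≠ E.pt) : ∃ x ∈ E.M, x * E.z ∈ E.D b := by
  have hbij : Function.Bijective fun d : E.D b => ((⟨(d : G), (E.mem_D.1 d.2).1⟩ : E.N) : E.Q) :=
    (Nat.bijective_iff_injective_and_card _).2
      ⟨E.D_mk_injective hb, by rw [E.card_D hb, E.card_Q]⟩
  obtain ⟨d, hd⟩ := hbij.2 ((⟨E.z, E.z_mem⟩ : E.N) : E.Q)
  have h1 := E.conj_M (E.mem_D.1 d.2).1 (E.mk_eq_iff.1 hd)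
  rw [show (d : G) * ((d : G)⁻¹ * E.z) * (d : G)⁻¹ = E.z * (d : G)⁻¹ by group] at h1
  refine ⟨(E.z * (d : G)⁻¹)⁻¹, E.M.inv_mem h1, ?_⟩
  rw [show (E.z * (d : G)⁻¹)⁻¹ * E.z = (d : G) by group]
  exact d.2

theorem invol_D_unique {b : G ⧸ E.N} (hb : b ≠ E.pt) {y y' : G} (hy : orderOf y = 2)
    (hy' : orderOf y' = 2) (h : y ∈ E.D b) (h' : y' ∈ E.D b) : y = y' := by
  obtain ⟨x, hx, rfl⟩ := E.invol_N hy (E.mem_D.1 h).1
  obtain ⟨x', hx', rfl⟩ := E.invol_N hy' (E.mem_D.1 h').1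
  have h1 : x * E.z * (x' * E.z)⁻¹ = x * x'⁻¹ := by group
  have h2 := E.semiregular hb (E.M.mul_mem hx (E.M.inv_mem hx'))
    (h1 ▸ (E.mem_D.1 ((E.D b).mul_mem h ((E.D b).inv_mem h'))).2)
  rw [mul_inv_eq_one.1 h2]

end Setup

end Cfsg.Agent.TICount
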