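import Mathlib

/-!
# Faithful coprime actions of abelian groups on abelian groups

* `ncard_range_lt` : a commutative family of automorphisms of coprime order restricts to fewer
  than `|W|` maps on an invariant subgroup `W ≠ 1`
* `two_mul_card_lt` : a faithful such action with an inverting element and no other element
  squaring to one: an element with a non-trivial fixed point forces `2 |A| < |V| - 1`
-/

set_option autoImplicit false

open scoped Classical
open Subgroup

namespace Cfsg.Agent.TICount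

variable {A V : Type*} [Group A] [Finite A] [CommGroup V] [Finite V] (φ : A →* MulAut V)

/-- The restrictions of the elements of `A` to `W`. -/
def restr (W : Subgroup V) : Set (W → V) := Set.range fun a : A => fun w : W => φ a (w : V)

/-- The fixed points of `a` in `W`. -/
def fixIn (a : A) (W : Subgroup V) : Subgroup V where
  carrier := {w | w ∈ W ∧ φ a w = w}
  one_mem' := ⟨W.one_mem, map_one _⟩
  mul_mem' := fun {x y} hx hy => ⟨W.mul_mem hx.1 hy.1, by rw [map_mul, hx.2, hy.2]⟩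
  inv_mem' := fun {x} hx => ⟨W.inv_mem hx.1, by rw [map_inv, hx.2]⟩

/-- `w ↦ a w / w`. -/
def commHom (a : A) (W : Subgroup V) : W →* V where
  toFun := fun w => φ a (w : V) / (w : V)
  map_one' := by simp
  map_mul' := fun x y => by
    simp only [Subgroup.coe_mul, map_mul]
    exact mul_div_mul_comm _ _ _ _

variable (hco : (Nat.card A).Coprime (Nat.card V)) (hcomm : ∀ a b : A, a * b = b * a)
include hco hcomm

/-- Coprime splitting along an element. -/
theorem split (a : A) (W : Subgroup V) (hW : ∀ b : A, ∀ w ∈ W, φ b w ∈ W) :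
    (∀ b : A, ∀ w ∈ fixIn φ a W, φ b w ∈ fixIn φ a W) ∧
      (∀ b : A, ∀ w ∈ (commHom φ a W).range, φ b w ∈ (commHom φ a W).range) ∧
      Nat.card (fixIn φ a W) * Nat.card (commHom φ a W).range = Nat.card W ∧
      ∀ w ∈ W, ∃ k ∈ fixIn φ a W, ∃ l ∈ (commHom φ a W).range, k * l = w := by
  have happ : ∀ b c : A, ∀ v : V, φ b (φ c v) = φ (b * c) v := fun b c v => by rw [map_mul]; rfl
  have hswap : ∀ b : A, ∀ v : V, φ a (φ b v) = φ b (φ a v) := fun b v => by
    rw [happ, happ, hcomm]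
  have hker : Nat.card (commHom φ a W).ker = Nat.card (fixIn φ a W) := Nat.card_congr
    { toFun := fun w => ⟨((w : W) : V), (w : W).2, div_eq_one.1 w.2⟩
      invFun := fun w => ⟨⟨w, w.2.1⟩, div_eq_one.2 w.2.2⟩
      left_inv := fun _ => rfl
      right_inv := fun _ => rfl }
  have hcard : Nat.card (fixIn φ a W) * Nat.card (commHom φ a W).range = Nat.card W := by
    rw [← hker, ← Subgroup.index_ker]
    exact Subgroup.card_mul_index _
  have hK : ∀ b : A, ∀ w ∈ fixIn φ a W, φ b w ∈ fixIn φ a W := fun b w hw =>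
    ⟨hW b w hw.1, by rw [hswap, hw.2]⟩
  have hL : ∀ b : A, ∀ w ∈ (commHom φ a W).range, φ b w ∈ (commHom φ a W).range := by
    rintro b w ⟨v, rfl⟩
    refine ⟨⟨φ b v, hW b v v.2⟩, ?_⟩
    show φ a (φ b (v : V)) / φ b (v : V) = φ b (φ a (v : V) / (v : V))
    rw [map_div, hswap]
  have hLW : (commHom φ a W).range ≤ W := by
    rintro w ⟨v, rfl⟩
    exact W.div_mem (hW a v v.2) v.2
  have hdisj : ∀ w, w ∈ fixIn φ a W → w ∈ (commHom φ a W).range → w = 1 := by
    rintro w ⟨-, hw⟩ ⟨v, hv⟩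
    have hv' : φ a (v : V) = (v : V) * w := by
      rw [← hv]; exact (mul_div_cancel _ _).symm
    have hpow : ∀ i : ℕ, φ (a ^ i) (v : V) = (v : V) * w ^ i := by
      intro i
      induction i with
      | zero => simp
      | succ i ih =>
        have hwi : φ a (w ^ i) = w ^ i := by rw [map_pow (φ a), hw]
        rw [pow_succ', ← happ, ih, map_mul (φ a), hv', hwi, pow_succ', mul_assoc]
    have h1 : w ^ Nat.card A = 1 := by
      have h := hpow (Nat.card A)
      rw [pow_card_eq_one', map_one, MulAut.one_apply, left_eq_mul] at h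
      exact h
    rw [← orderOf_eq_one_iff]
    exact Nat.eq_one_of_dvd_coprimes hco (orderOf_dvd_of_pow_eq_one h1) (orderOf_dvd_natCard w)
  refine ⟨hK, hL, hcard, fun w hw => ?_⟩
  have hbij : Function.Bijective (fun p : fixIn φ a W × (commHom φ a W).range =>
      (⟨(p.1 : V) * p.2, W.mul_mem p.1.2.1 (hLW p.2.2)⟩ : W)) := by
    refine (Nat.bijective_iff_injective_and_card _).2 ⟨?_, by rw [Nat.card_prod, hcard]⟩
    rintro ⟨k, l⟩ ⟨k', l'⟩ h
    have h' : (k : V) * l = k' * l' := congrArg Subtype.val h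
    have h2 : (k : V) / k' = (l' : V) / l := by
      rw [div_eq_div_iff_mul_eq_mul, h', mul_comm]
    have h3 := hdisj _ ((fixIn φ a W).div_mem k.2 k'.2)
      (h2 ▸ (commHom φ a W).range.div_mem l'.2 l.2)
    have hk : k = k' := Subtype.ext (div_eq_one.1 h3)
    subst hk
    exact Prod.ext rfl (Subtype.ext (mul_left_cancel h'))
  obtain ⟨⟨k, l⟩, hkl⟩ := hbij.2 ⟨w, hw⟩
  exact ⟨k, k.2, l, l.2, congrArg Subtype.val hkl⟩

theorem ncard_range_lt : ∀ (n : ℕ) (W : Subgroup V), Nat.card W = n → 1 < n →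
    (∀ b : A, ∀ w ∈ W, φ b w ∈ W) → (restr φ W).ncard < n := by
  intro n
  induction n using Nat.strong_induction_on with
  | _ n ih =>
  intro W hn h1 hW
  by_cases hsplit : ∃ a : A, fixIn φ a W ≠ ⊥ ∧ ¬ ∀ w ∈ W, φ a w = w
  · obtain ⟨a, hK1, hKW⟩ := hsplit
    obtain ⟨hK, hL, hcard, hgen⟩ := split φ hco hcomm a W hW
    rw [hn] at hcard
    have hk : 1 < Nat.card (fixIn φ a W) := by
      rw [Finite.one_lt_card_iff_nontrivial, nontrivial_iff_ne_bot]; exact hK1
    have hl : 1 < Nat.card (commHom φ a W).range := by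
      rw [Finite.one_lt_card_iff_nontrivial, nontrivial_iff_ne_bot]
      intro h
      refine hKW fun w hw => div_eq_one.1 ?_
      have : commHom φ a W ⟨w, hw⟩ ∈ (⊥ : Subgroup V) := h ▸ ⟨⟨w, hw⟩, rfl⟩
      exact Subgroup.mem_bot.1 this
    have ih1 := ih _ (by nlinarith) (fixIn φ a W) rfl hk hK
    have ih2 := ih _ (by nlinarith) (commHom φ a W).range rfl hl hL
    have hLW : (commHom φ a W).range ≤ W := by
      rintro w ⟨v, rfl⟩
      exact W.div_mem (hW a v v.2) v.2
    have h2 : (restr φ W).ncard ≤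
        ((restr φ (fixIn φ a W)) ×ˢ (restr φ (commHom φ a W).range)).ncard := by
      refine Set.ncard_le_ncard_of_injOn
        (fun r : W → V => ((fun k : fixIn φ a W => r ⟨k, k.2.1⟩),
          fun l : (commHom φ a W).range => r ⟨l, hLW l.2⟩)) ?_ ?_ (Set.toFinite _)
      · rintro _ ⟨b, rfl⟩
        exact ⟨⟨b, rfl⟩, ⟨b, rfl⟩⟩
      · rintro _ ⟨b, rfl⟩ _ ⟨c, rfl⟩ h
        simp only [Prod.mk.injEq] at h
        funext w
        obtain ⟨k, hk', l, hl', e⟩ := hgen w w.2
        show φ b (w : V) = φ c (w : V)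
        rw [← e, map_mul, map_mul]
        exact congrArg₂ (· * ·) (congrFun h.1 ⟨k, hk'⟩) (congrFun h.2 ⟨l, hl'⟩)
    rw [Set.ncard_prod] at h2
    calc (restr φ W).ncard ≤ _ := h2
      _ < Nat.card (fixIn φ a W) * Nat.card (commHom φ a W).range :=
          Nat.mul_lt_mul'' ih1 ih2
      _ = n := hcard
  · push Not at hsplit
    obtain ⟨w₁, hw₁⟩ := W.ne_bot_iff_exists_ne_one.1 (by
      intro h
      rw [h, Subgroup.card_bot] at hn
      omega)
    have hinj : Set.InjOn (fun r : W → V => r w₁) (restr φ W) := by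
      rintro _ ⟨b, rfl⟩ _ ⟨c, rfl⟩ h
      have h' : φ b (w₁ : V) = φ c (w₁ : V) := h
      have hfix : φ (c⁻¹ * b) (w₁ : V) = w₁ := by
        rw [map_mul, MulAut.mul_apply, h', ← MulAut.mul_apply, ← map_mul, inv_mul_cancel,
          map_one, MulAut.one_apply]
      have hne : fixIn φ (c⁻¹ * b) W ≠ ⊥ := fun e => hw₁ (Subtype.ext (Subgroup.mem_bot.1
        (e ▸ (⟨w₁.2, hfix⟩ : (w₁ : V) ∈ fixIn φ (c⁻¹ * b) W))))
      funext w
      show φ b (w : V) = φ c (w : V)
      conv_rhs => rw [← hsplit _ hne w w.2, ← MulAut.mul_apply, ← map_mul, mul_inv_cancel_left]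
    have h2 : (restr φ W).ncard ≤ ((W : Set V) \ {1}).ncard := by
      refine Set.ncard_le_ncard_of_injOn (fun r : W → V => r w₁) ?_ hinj (Set.toFinite _)
      rintro _ ⟨b, rfl⟩
      exact ⟨hW b _ w₁.2, fun h => hw₁ (Subtype.ext ((map_eq_one_iff _ (φ b).injective).1 h))⟩
    have h3 := Set.ncard_sdiff_singleton_add_one (s := (W : Set V)) W.one_mem (Set.toFinite _)
    have h4 : (W : Set V).ncard = n := by rw [← Nat.card_coe_set_eq]; exact hn
    omega

/-- An element of a faithful action with a non-trivial fixed point. -/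
theorem two_mul_card_lt (hinj : Function.Injective φ) (z : A) (hz : ∀ v : V, φ z v = v⁻¹)
    (hodd : Odd (Nat.card V)) (huniq : ∀ a : A, a * a = 1 → a = 1 ∨ a = z)
    (a : A) (ha : a ≠ 1) {v : V} (hv1 : v ≠ 1) (hv : φ a v = v) :
    2 * Nat.card A + 1 < Nat.card V := by
  obtain ⟨hK, hL, hcard, hgen⟩ := split φ hco hcomm a ⊤ fun _ _ _ => Subgroup.mem_top _
  rw [Subgroup.card_top] at hcard
  have hsq : ∀ w : V, w * w = 1 → w = 1 := fun w hw => orderOf_eq_one_iff.1 (by
    have h1 : orderOf w ∣ 2 := orderOf_dvd_of_pow_eq_one (by rw [pow_two, hw])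
    rcases (Nat.dvd_prime Nat.prime_two).1 h1 with h | h
    · exact h
    · have h2 := orderOf_dvd_natCard w
      rw [h] at h2
      exact absurd hodd (Nat.not_odd_iff_even.2 (even_iff_two_dvd.2 h2)))
  have hK1 : fixIn φ a ⊤ ≠ ⊥ := fun h => hv1 (Subgroup.mem_bot.1
    (h ▸ (⟨Subgroup.mem_top _, hv⟩ : v ∈ fixIn φ a ⊤)))
  have hL1 : (commHom φ a ⊤).range ≠ ⊥ := fun h => ha (hinj (MulEquiv.ext fun w => by
    rw [map_one, MulAut.one_apply]
    refine div_eq_one.1 ?_
    have : commHom φ a ⊤ ⟨w, Subgroup.mem_top _⟩ ∈ (⊥ : Subgroup V) := h ▸ ⟨⟨w, trivial⟩, rfl⟩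
    exact Subgroup.mem_bot.1 this))
  have hk : 1 < Nat.card (fixIn φ a ⊤) := by
    rw [Finite.one_lt_card_iff_nontrivial, nontrivial_iff_ne_bot]; exact hK1
  have hl : 1 < Nat.card (commHom φ a ⊤).range := by
    rw [Finite.one_lt_card_iff_nontrivial, nontrivial_iff_ne_bot]; exact hL1
  have h1 := ncard_range_lt φ hco hcomm _ (fixIn φ a ⊤) rfl hk hK
  have h2 := ncard_range_lt φ hco hcomm _ (commHom φ a ⊤).range rfl hl hL
  have happ : ∀ b c : A, ∀ w : V, φ b (φ c w) = φ (b * c) w := fun b c w => by rw [map_mul]; rfl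
  -- no element inverts the fixed points and fixes the commutators
  have hno : ∀ b c : A, (∀ k ∈ fixIn φ a ⊤, φ b k = φ (c * z) k) →
      (∀ l ∈ (commHom φ a ⊤).range, φ b l = φ c l) → False := by
    intro b c hbk hbl
    have hbk' : ∀ k ∈ fixIn φ a ⊤, φ (c⁻¹ * b) k = k⁻¹ := fun k hk => by
      rw [map_mul, MulAut.mul_apply, hbk k hk, map_mul, MulAut.mul_apply, happ c⁻¹ c,
        inv_mul_cancel, map_one, MulAut.one_apply, hz]
    have hbl' : ∀ l ∈ (commHom φ a ⊤).range, φ (c⁻¹ * b) l = l := fun l hl => by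
      rw [map_mul, MulAut.mul_apply, hbl l hl, happ, inv_mul_cancel, map_one, MulAut.one_apply]
    generalize c⁻¹ * b = e at hbk' hbl'
    have hee : e * e = 1 := hinj (MulEquiv.ext fun w => by
      rw [map_one, MulAut.one_apply, map_mul, MulAut.mul_apply]
      obtain ⟨k, hk, l, hl, rfl⟩ := hgen w (Subgroup.mem_top _)
      rw [map_mul, hbk' k hk, hbl' l hl, map_mul, map_inv, hbk' k hk, inv_inv, hbl' l hl])
    obtain ⟨k₀, hk₀⟩ := (fixIn φ a ⊤).ne_bot_iff_exists_ne_one.1 hK1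
    obtain ⟨l₀, hl₀⟩ := (commHom φ a ⊤).range.ne_bot_iff_exists_ne_one.1 hL1
    rcases huniq e hee with rfl | rfl
    · have h := hbk' k₀ k₀.2
      rw [map_one, MulAut.one_apply] at h
      exact hk₀ (Subtype.ext (hsq _ (by nth_rw 2 [h]; rw [mul_inv_cancel])))
    · have h := hbl' l₀ l₀.2
      rw [hz] at h
      exact hl₀ (Subtype.ext (hsq _ (by nth_rw 1 [← h]; rw [inv_mul_cancel])))
  -- two disjoint images
  let g : A × Bool → ((fixIn φ a ⊤ → V) × ((commHom φ a ⊤).range → V)) := fun p =>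
    ((fun k => φ (bif p.2 then p.1 * z else p.1) k), fun l => φ p.1 l)
  have h3 : (Set.univ : Set (A × Bool)).ncard ≤
      (restr φ (fixIn φ a ⊤) ×ˢ restr φ (commHom φ a ⊤).range).ncard := by
    refine Set.ncard_le_ncard_of_injOn g (fun p _ => ⟨⟨_, rfl⟩, ⟨p.1, rfl⟩⟩) ?_ (Set.toFinite _)
    rintro ⟨b, i⟩ - ⟨c, j⟩ - h
    simp only [g, Prod.mk.injEq] at h
    obtain ⟨hk', hl'⟩ := h
    rcases i <;> rcases j <;> simp only [cond_true, cond_false] at hk'
    · refine Prod.ext (hinj (MulEquiv.ext fun w => ?_)) rfl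
      obtain ⟨k, hk0, l, hl0, rfl⟩ := hgen w (Subgroup.mem_top _)
      rw [map_mul (φ b), map_mul (φ c)]
      exact congrArg₂ (· * ·) (congrFun hk' ⟨k, hk0⟩) (congrFun hl' ⟨l, hl0⟩)
    · exact (hno b c (fun k hk0 => congrFun hk' ⟨k, hk0⟩) fun l hl0 => congrFun hl' ⟨l, hl0⟩).elim
    · exact (hno c b (fun k hk0 => (congrFun hk' ⟨k, hk0⟩).symm)
        fun l hl0 => (congrFun hl' ⟨l, hl0⟩).symm).elim
    · refine Prod.ext (hinj (MulEquiv.ext fun w => ?_)) rfl
      obtain ⟨k, hk0, l, hl0, rfl⟩ := hgen w (Subgroup.mem_top _)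
      rw [map_mul (φ b), map_mul (φ c)]
      refine congrArg₂ (· * ·) ?_ (congrFun hl' ⟨l, hl0⟩)
      have h := congrFun hk' ⟨k, hk0⟩
      simp only [map_mul, MulAut.mul_apply, hz, map_inv, _root_.inv_inj] at h
      exact h
  rw [Set.ncard_univ, Set.ncard_prod, Nat.card_prod, Nat.card_eq_fintype_card (α := Bool),
    Fintype.card_bool] at h3
  generalize Nat.card (fixIn φ a ⊤) = x at h1 hk hcard
  generalize Nat.card (commHom φ a ⊤).range = y at h2 hl hcard
  have h4 := Nat.mul_le_mul (Nat.le_sub_one_of_lt h1) (Nat.le_sub_one_of_lt h2)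
  obtain ⟨x, rfl⟩ : ∃ i, x = i + 2 := ⟨x - 2, by omega⟩
  obtain ⟨y, rfl⟩ : ∃ i, y = i + 2 := ⟨y - 2, by omega⟩
  rw [show x + 2 - 1 = x + 1 from rfl, show y + 2 - 1 = y + 1 from rfl] at h4
  nlinarith

end Cfsg.Agent.TICount
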