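import Cfsg.Agent.Lib.TICount.Fix
import Cfsg.Agent.Lib.TICount.Coprime
import Cfsg.Agent.Lib.Zassenhaus.AbelianKernel
import Cfsg.Agent.Lib.Zassenhaus.PSL
import Cfsg.Agent.Lib.Perm.SharpThreeField
import Cfsg.Agent.S0738
import Cfsg.Agent.EqLemmas

/-!
# The case of a complement of order at least three

* `m_cases`   : `m = h + 1` or `m = 2 h + 1`
* `fpf`       : `C` acts fixed-point-freely on `M`
* `zassenhaus`: the action on the conjugates of `M` is a Zassenhaus group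
* `caseBig`   : `G` is `PGL₂` or `PSL₂` over a field of order `m`
-/

set_option autoImplicit false
set_option linter.unusedSectionVars false

open scoped Classical
open MulAction Subgroup

namespace Cfsg.Agent.TICount.Setup

variable {G : Type*} [Group G] [Finite G] [Fintype G] (E : Setup G)

theorem four_le_h (hh : E.h ≠ 2) : 4 ≤ E.h := by
  obtain ⟨k, hk⟩ := E.even_h
  have := E.h_pos
  omega

theorem f_one (hh : E.h ≠ 2) : E.f = 1 := by
  have := E.f_pos
  by_contra h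
  exact hh (E.h_eq_two_of_one_lt_f (by omega))

theorem exists_b0 (hh : E.h ≠ 2) : ∃ b0, E.F = {b0} := Finset.card_eq_one.1 (E.f_one hh)

theorem C_comm {c d : G} (hc : c ∈ E.C) (hd : d ∈ E.C) : c * d = d * c := by
  obtain ⟨b, hb⟩ := Finset.card_pos.1 E.f_pos
  rw [← E.D_eq_C hb] at hc hd
  exact E.D_comm (E.mem_F.1 hb).1 hc hd

theorem z_comm_CZ {g : G} (hg : g ∈ E.C) : g * E.z = E.z * g := (E.mem_C.1 hg).2

theorem m_cases (hh : E.h ≠ 2) : E.m = E.h + 1 ∨ E.m = 2 * E.h + 1 := by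
  obtain ⟨b0, hb0⟩ := E.exists_b0 hh
  have hbF : b0 ∈ E.F := by rw [hb0]; exact Finset.mem_singleton_self _
  have hbne := (E.mem_F.1 hbF).1
  have hσ : E.σ = (E.S b0 ∩ E.cls).card := by rw [σ, hb0, Finset.sum_singleton]
  have h1 := E.count_eq
  rw [E.f_one hh] at h1
  have hle : (E.S b0 ∩ E.cls).card ≤ E.h :=
    (Finset.card_le_card Finset.inter_subset_left).trans (E.full hbne).le
  have hm := E.three_le_m
  rw [← hσ] at hle
  obtain ⟨t, ht⟩ : (E.S b0 ∩ E.cls).Nonempty := by rw [← Finset.card_pos, ← hσ]; omega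
  obtain ⟨htS, htc⟩ := Finset.mem_inter.1 ht
  have hDC := E.D_eq_C hbF
  -- squaring on `C`
  let sq : E.C →* E.C :=
    { toFun := fun c => c * c
      map_one' := mul_one 1
      map_mul' := fun a b => by
        have h : (b : G) * a = a * b := E.C_comm b.2 a.2
        refine Subtype.ext ?_
        show (a : G) * b * ((a : G) * b) = a * a * (b * b)
        rw [mul_assoc, ← mul_assoc (b : G) a b, h]
        group }
  have hzC : (⟨E.z, E.z_mem_C⟩ : E.C) ≠ 1 := fun e => ne_one_of_inv E.z_inv (congrArg Subtype.val e)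
  have hker : Nat.card sq.ker = 2 := by
    rw [Nat.card_eq_two_iff]
    refine ⟨1, ⟨⟨E.z, E.z_mem_C⟩, Subtype.ext E.zz⟩, fun e => hzC (congrArg Subtype.val e).symm, ?_⟩
    refine Set.eq_univ_of_forall fun x => ?_
    rcases eq_or_ne (x : E.C) 1 with h | h
    · exact Or.inl (Subtype.ext h)
    · refine Or.inr (Subtype.ext (Subtype.ext ?_))
      exact E.C_invol (inv_of_mul_self (fun e => h (Subtype.ext e)) (congrArg Subtype.val x.2))
        (x : E.C).2
  set R : Finset G := Finset.univ.image fun c : E.C => ((c : G) * c) with hR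
  have hRcard : 2 * R.card = E.h := by
    have h2 := Subgroup.card_mul_index sq.ker
    rw [hker, Subgroup.index_ker] at h2
    rw [show R.card = Nat.card sq.range from ?_]
    · exact h2
    · rw [← Nat.card_eq_finsetCard]
      refine (Nat.card_eq_of_bijective (fun r : sq.range => (⟨((r : E.C) : G), ?_⟩ : R))
        ⟨fun r r' e => Subtype.ext (Subtype.ext (congrArg (fun w : R => (w : G)) e)), ?_⟩).symm
      · obtain ⟨c, hc⟩ := r.2
        exact Finset.mem_image.2 ⟨c, Finset.mem_univ _, by rw [← hc]; rfl⟩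
      · rintro ⟨r, hr⟩
        obtain ⟨c, -, hc⟩ := Finset.mem_image.1 hr
        exact ⟨⟨sq c, c, rfl⟩, Subtype.ext hc⟩
  have hmove : ∀ c : E.C, ∀ u ∈ E.S b0 ∩ E.cls, (c : G) * c * u ∈ E.S b0 ∩ E.cls := by
    intro c u hu
    obtain ⟨h3, h4⟩ := Finset.mem_inter.1 hu
    have hcD : (c : G) ∈ E.D b0 := by rw [hDC]; exact c.2
    have hi := E.swap_inverts hbne h3 hcD
    have h5 : (c : G) * u * (c : G)⁻¹ = c * c * u := by
      rw [← hi, show (c : G) * u * (u * c * u⁻¹) = c * (u * u) * c * u⁻¹ by group,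
        mul_self_of_inv (E.mem_S.1 h3).1, inv_of_inv (E.mem_S.1 h3).1, mul_one]
    refine Finset.mem_inter.2 ⟨?_, h5 ▸ E.conj_mem_cls h4 c⟩
    have h6 := E.smul_S (E.mem_C.1 c.2).1 h3
    rw [(E.mem_D.1 hcD).2, h5] at h6
    exact h6
  have hsub : R.image (· * t) ⊆ E.S b0 ∩ E.cls := by
    intro u hu
    obtain ⟨r, hr, rfl⟩ := Finset.mem_image.1 hu
    obtain ⟨c, -, rfl⟩ := Finset.mem_image.1 hr
    exact hmove c t ht
  have hc1 : (R.image (· * t)).card = R.card :=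
    Finset.card_image_of_injective _ (mul_left_injective t)
  by_cases heq : E.S b0 ∩ E.cls ⊆ R.image (· * t)
  · have : E.σ = R.card := by
      rw [hσ, ← hc1]
      exact congrArg Finset.card (Finset.Subset.antisymm heq hsub)
    left; omega
  · obtain ⟨u, hu, hu'⟩ := Finset.not_subset.1 heq
    have hsub2 : R.image (· * u) ⊆ E.S b0 ∩ E.cls := by
      intro w hw
      obtain ⟨r, hr, rfl⟩ := Finset.mem_image.1 hw
      obtain ⟨c, -, rfl⟩ := Finset.mem_image.1 hr
      exact hmove c u hu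
    have hdis : Disjoint (R.image (· * t)) (R.image (· * u)) := by
      rw [Finset.disjoint_left]
      intro w hw hw'
      obtain ⟨r, hr, rfl⟩ := Finset.mem_image.1 hw
      obtain ⟨r', hr', e⟩ := Finset.mem_image.1 hw'
      obtain ⟨c, -, rfl⟩ := Finset.mem_image.1 hr
      obtain ⟨d, -, rfl⟩ := Finset.mem_image.1 hr'
      refine hu' (Finset.mem_image.2 ⟨(d : G)⁻¹ * c * ((d : G)⁻¹ * c), Finset.mem_image.2
        ⟨d⁻¹ * c, Finset.mem_univ _, rfl⟩, ?_⟩)
      have h3 : (c : G) * (d : G)⁻¹ = (d : G)⁻¹ * c := E.C_comm c.2 (E.C.inv_mem d.2)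
      calc (d : G)⁻¹ * c * ((d : G)⁻¹ * c) * t = (d : G)⁻¹ * (c * (d : G)⁻¹) * c * t := by group
        _ = ((d : G) * d)⁻¹ * ((c : G) * c * t) := by rw [h3]; group
        _ = u := by
          have e' : (d : G) * d * u = (c : G) * c * t := e
          rw [← e', inv_mul_cancel_left]
    have h2 := Finset.card_le_card (Finset.union_subset hsub hsub2)
    rw [Finset.card_union_of_disjoint hdis, hc1,
      Finset.card_image_of_injective _ (mul_left_injective u), ← hσ] at h2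
    right; omega

theorem five_le_m (hh : E.h ≠ 2) : 5 ≤ E.m := by
  have := E.four_le_h hh
  rcases E.m_cases hh with h | h <;> omega

theorem orbit_b0 (hh : E.h ≠ 2) {b0 : G ⧸ E.N} (hb0 : E.F = {b0}) {b : G ⧸ E.N} (hb : b ≠ E.pt) :
    ∃ x ∈ E.M, x • b0 = b := by
  obtain ⟨x, c, hc, e⟩ := E.exists_pair hb
  rw [hb0, Finset.mem_singleton] at hc
  exact ⟨x, x.2, hc ▸ e⟩

theorem faithful_M (hh : E.h ≠ 2) {c : G} (hc : c ∈ E.C) (hcomm : ∀ x ∈ E.M, c * x = x * c) :
    c = 1 := by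
  obtain ⟨b0, hb0⟩ := E.exists_b0 hh
  have hbF : b0 ∈ E.F := by rw [hb0]; exact Finset.mem_singleton_self _
  have hbne := (E.mem_F.1 hbF).1
  have hcD : c ∈ E.D b0 := (E.D_eq_C hbF).symm ▸ hc
  -- `c` fixes every point
  have hall : ∀ b : G ⧸ E.N, c • b = b := by
    intro b
    rcases eq_or_ne b E.pt with rfl | hb
    · exact E.stab_pt.2 (E.mem_C.1 hc).1
    · obtain ⟨x, hx, rfl⟩ := E.orbit_b0 hh hb0 hb
      rw [← mul_smul, hcomm x hx, mul_smul, (E.mem_D.1 hcD).2]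
  -- a point moved by `z`
  obtain ⟨⟨x, hx⟩, hx1⟩ := E.M.ne_bot_iff_exists_ne_one.1 E.ne_bot
  have hR : x • b0 ≠ b0 := fun e => hx1 (Subtype.ext (E.semiregular hbne hx e))
  have hRpt : x • b0 ≠ E.pt := fun e => hbne (by
    rw [eq_inv_smul_iff.2 e, E.stab_pt.2 (E.N.inv_mem (E.M_le_N hx))])
  have hzR : E.z • (x • b0) ≠ x • b0 := fun e => by
    have h := E.mem_F.2 ⟨hRpt, e⟩
    rw [hb0, Finset.mem_singleton] at h
    exact hR h
  obtain ⟨g, hg⟩ := E.exists_smul_pt (x • b0)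
  set s := g⁻¹ * E.z * g with hs
  have hs2 : orderOf s = 2 := by have := conj_inv E.z_inv g⁻¹; rwa [inv_inv] at this
  have hspt : s • E.pt ≠ E.pt := fun e => hzR (by rw [← hg]; exact E.fix_iff.2 (E.stab_pt.1 e))
  have hd : g⁻¹ * c * g ∈ E.D (s • E.pt) := E.mem_D.2 ⟨E.stab_pt.1 (by
    rw [mul_smul, mul_smul, hall, inv_smul_smul]), by rw [mul_smul, mul_smul, hall, inv_smul_smul]⟩
  have hi := E.swap_inverts hspt (E.mem_S.2 ⟨hs2, rfl⟩) hd
  have hcz := E.z_comm_CZ hc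
  have hc2 : c * c = 1 := by
    have h1 : g⁻¹ * c * g = (g⁻¹ * c * g)⁻¹ := by
      rw [← hi, hs]
      calc g⁻¹ * c * g = g⁻¹ * (E.z * c * E.z) * g := by rw [E.commute_cancel hcz]
        _ = g⁻¹ * (E.z * c * E.z⁻¹) * g := by rw [E.z_inv']
        _ = _ := by group
    have h2 : g⁻¹ * c * g * (g⁻¹ * c * g) = 1 := by
      nth_rw 1 [h1]
      exact inv_mul_cancel _
    calc c * c = g * (g⁻¹ * c * g * (g⁻¹ * c * g)) * g⁻¹ := by group
      _ = 1 := by rw [h2]; group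
  by_contra hc1
  exact hzR (E.C_invol (inv_of_mul_self hc1 hc2) hc ▸ hall (x • b0))

theorem fpf (hh : E.h ≠ 2) {c x : G} (hc : c ∈ E.C) (hx : x ∈ E.M) (h : c * x = x * c)
    (hc1 : c ≠ 1) : x = 1 := by
  by_contra hx1
  letI : CommGroup E.M :=
    { (inferInstance : Group E.M) with mul_comm := fun a b => Subtype.ext (E.M_comm a.2 b.2) }
  let φ : E.C →* MulAut E.M :=
    { toFun := fun c =>
        { toFun := fun w => ⟨(c : G) * w * (c : G)⁻¹, E.conj_M (E.mem_C.1 c.2).1 w.2⟩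
          invFun := fun w => ⟨(c : G)⁻¹ * w * (c : G), by
            have := E.conj_M (E.N.inv_mem (E.mem_C.1 c.2).1) w.2
            rwa [inv_inv] at this⟩
          left_inv := fun w => Subtype.ext (by simp [mul_assoc])
          right_inv := fun w => Subtype.ext (by simp [mul_assoc])
          map_mul' := fun w w' => Subtype.ext (by simp [mul_assoc]) }
      map_one' := MulEquiv.ext fun w => Subtype.ext (by simp)
      map_mul' := fun c d => MulEquiv.ext fun w => Subtype.ext (by simp [mul_assoc]) }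
  have hco : (Nat.card E.C).Coprime (Nat.card E.M) := by
    show Nat.Coprime E.h E.m
    rcases E.m_cases hh with e | e <;> rw [e]
    · rw [add_comm]; simp
    · rw [add_comm, Nat.coprime_add_mul_right_right]; simp
  have hinj : Function.Injective φ := (injective_iff_map_eq_one φ).2 fun d hd =>
    Subtype.ext (E.faithful_M hh d.2 fun w hw => by
      have h1 : (d : G) * w * (d : G)⁻¹ = w := congrArg Subtype.val (DFunLike.congr_fun hd ⟨w, hw⟩)
      rwa [mul_inv_eq_iff_eq_mul] at h1)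
  have h2 := two_mul_card_lt φ hco (fun a b => Subtype.ext (E.C_comm a.2 b.2)) hinj ⟨E.z, E.z_mem_C⟩
    (fun w => Subtype.ext (E.inverts w.2)) E.odd_m (fun a ha => by
      rcases eq_or_ne a 1 with e | e
      · exact Or.inl e
      · exact Or.inr (Subtype.ext (E.C_invol
          (inv_of_mul_self (fun e' => e (Subtype.ext e')) (congrArg Subtype.val ha)) a.2)))
    ⟨c, hc⟩ (fun e => hc1 (congrArg Subtype.val e)) (v := ⟨x, hx⟩)
    (fun e => hx1 (congrArg Subtype.val e))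
    (Subtype.ext (show c * x * c⁻¹ = x by rw [h, mul_inv_cancel_right]))
  change 2 * E.h + 1 < E.m at h2
  rcases E.m_cases hh with e | e <;> omega

theorem D_fix_eq (hh : E.h ≠ 2) {b0 : G ⧸ E.N} (hb0 : E.F = {b0}) {g : G} (hg : g ∈ E.C)
    (hg1 : g ≠ 1) {b : G ⧸ E.N} (hb : b ≠ E.pt) (hgb : g • b = b) : b = b0 := by
  have hbF : b0 ∈ E.F := by rw [hb0]; exact Finset.mem_singleton_self _
  have hgb0 : g • b0 = b0 := (E.mem_D.1 ((E.D_eq_C hbF).symm ▸ hg : g ∈ E.D b0)).2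
  obtain ⟨x, hx, rfl⟩ := E.orbit_b0 hh hb0 hb
  have h1 : (x⁻¹ * (g * x * g⁻¹)) • b0 = b0 := by
    rw [mul_smul, mul_smul, mul_smul, inv_smul_eq_iff.2 hgb0.symm, hgb, inv_smul_smul]
  have h2 := E.semiregular (E.mem_F.1 hbF).1
    (E.M.mul_mem (E.M.inv_mem hx) (E.conj_M (E.mem_C.1 hg).1 hx)) h1
  rw [inv_mul_eq_one] at h2
  rw [E.fpf hh hg hx (by nth_rw 2 [h2]; group) hg1, one_smul]

theorem eq_one_of_three (hh : E.h ≠ 2) {g : G} {a b c : G ⧸ E.N} (hab : a ≠ b) (hac : a ≠ c)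
    (hbc : b ≠ c) (ha : g • a = a) (hb : g • b = b) (hc : g • c = c) : g = 1 := by
  obtain ⟨b0, hb0⟩ := E.exists_b0 hh
  have hbF : b0 ∈ E.F := by rw [hb0]; exact Finset.mem_singleton_self _
  obtain ⟨k, rfl⟩ := E.exists_smul_pt a
  by_contra hg1
  -- move `b` to `b0` inside the stabiliser of the base point
  have hb' : k⁻¹ • b ≠ E.pt := fun e => hab (inv_smul_eq_iff.1 e).symm
  obtain ⟨x, hx, hxb⟩ := E.orbit_b0 hh hb0 hb'
  set k' := k * x with hk
  have hfix : ∀ w : G ⧸ E.N, g • w = w → (k'⁻¹ * g * k') • (k'⁻¹ • w) = k'⁻¹ • w := fun w hw => by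
    rw [mul_smul, mul_smul, smul_inv_smul, hw]
  have hpt : k'⁻¹ • (k • E.pt) = E.pt := by
    rw [hk, _root_.mul_inv_rev, mul_smul, inv_smul_smul,
      E.stab_pt.2 (E.N.inv_mem (E.M_le_N hx))]
  have hb1 : k'⁻¹ • b = b0 := by rw [hk, _root_.mul_inv_rev, mul_smul, ← hxb, inv_smul_smul]
  have h1 : k'⁻¹ * g * k' ∈ E.C := by
    rw [← E.D_eq_C hbF]
    refine E.mem_D.2 ⟨E.stab_pt.1 ?_, ?_⟩
    · have := hfix _ ha; rwa [hpt] at this
    · have := hfix _ hb; rwa [hb1] at this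
  have hne : k'⁻¹ * g * k' ≠ 1 := fun e => hg1 (by
    calc g = k' * (k'⁻¹ * g * k') * k'⁻¹ := by group
      _ = 1 := by rw [e]; group)
  have hc' : k'⁻¹ • c ≠ E.pt := fun e => hac (smul_left_cancel k'⁻¹ (hpt.trans e.symm))
  exact hbc (smul_left_cancel k'⁻¹ (hb1.trans (E.D_fix_eq hh hb0 h1 hne hc' (hfix c hc)).symm))

theorem three_le_points (hh : E.h ≠ 2) : 3 ≤ Nat.card (G ⧸ E.N) := by
  rw [E.card_points, E.card_points_eq, E.f_one hh]
  have := E.five_le_m hh
  omega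

theorem reach (hh : E.h ≠ 2) {a b : G ⧸ E.N} (ha : a ≠ E.pt) (hb : b ≠ E.pt) :
    ∃ x ∈ E.M, x • a = b := by
  obtain ⟨b0, hb0⟩ := E.exists_b0 hh
  obtain ⟨x, hx, rfl⟩ := E.orbit_b0 hh hb0 ha
  obtain ⟨y, hy, rfl⟩ := E.orbit_b0 hh hb0 hb
  exact ⟨y * x⁻¹, E.M.mul_mem hy (E.M.inv_mem hx), by rw [mul_smul, inv_smul_smul]⟩

theorem pretransitive2 (hh : E.h ≠ 2) : IsMultiplyPretransitive G (G ⧸ E.N) 2 := by
  refine MulAction.is_two_pretransitive_iff.2 ?_
  intro a b c d hab hcd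
  have key : ∀ p q : G ⧸ E.N, p ≠ q → ∀ r : G ⧸ E.N, r ≠ E.pt →
      ∃ g : G, g • E.pt = p ∧ g • r = q := by
    intro p q hpq r hr
    obtain ⟨g, rfl⟩ := E.exists_smul_pt p
    have hq : g⁻¹ • q ≠ E.pt := fun h => hpq (inv_smul_eq_iff.1 h).symm
    obtain ⟨u, hu, huq⟩ := E.reach hh hr hq
    exact ⟨g * u, by rw [mul_smul, E.stab_pt.2 (E.M_le_N hu)],
      by rw [mul_smul, huq, smul_inv_smul]⟩
  obtain ⟨b0, hb0⟩ := E.exists_b0 hh
  have hr : b0 ≠ E.pt := (E.mem_F.1 (by rw [hb0]; exact Finset.mem_singleton_self _)).1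
  obtain ⟨g, rfl, rfl⟩ := key a b hab b0 hr
  obtain ⟨k, rfl, rfl⟩ := key c d hcd b0 hr
  exact ⟨k * g⁻¹, by rw [mul_smul, inv_smul_smul], by rw [mul_smul, inv_smul_smul]⟩

theorem zassenhaus (hh : E.h ≠ 2) : Cfsg.IsZassenhausGroup G (G ⧸ E.N) := by
  haveI : Fintype (G ⧸ E.N) := Fintype.ofFinite _
  obtain ⟨b0, hb0⟩ := E.exists_b0 hh
  have hbF : b0 ∈ E.F := by rw [hb0]; exact Finset.mem_singleton_self _
  obtain ⟨hbne, hzb⟩ := E.mem_F.1 hbF
  obtain ⟨p1, p2, p3, h12, h13, h23⟩ := Fintype.two_lt_card_iff.1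
    (show 2 < Fintype.card (G ⧸ E.N) by
      rw [← Nat.card_eq_fintype_card]; exact E.three_le_points hh)
  refine ⟨⟨fun {g k} hgk => inv_mul_eq_one.1 (E.eq_one_of_three hh h12 h13 h23 ?_ ?_ ?_)⟩,
    E.pretransitive2 hh, fun g a b c hab hbc hac => E.eq_one_of_three hh hab hac hbc,
    ⟨E.z, ne_one_of_inv E.z_inv, E.pt, b0, hbne.symm, E.stab_pt.2 E.z_mem, hzb⟩, ?_⟩
  · rw [mul_smul, ← hgk p1, inv_smul_smul]
  · rw [mul_smul, ← hgk p2, inv_smul_smul]
  · rw [mul_smul, ← hgk p3, inv_smul_smul]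
  intro L hL htrans
  by_contra hreg
  push Not at hreg
  -- `L` is regular
  have hLN : ∀ v ∈ L, v • E.pt = E.pt → v = 1 := fun v hv e => by
    have h1 : (⟨v, hv⟩ : L) ∈ stabilizer L E.pt := e
    exact congrArg Subtype.val (Subgroup.mem_bot.1 ((hreg E.pt).le h1))
  have hinjL : ∀ v ∈ L, ∀ w ∈ L, v • E.pt = w • E.pt → v = w := fun v hv w hw e =>
    (inv_mul_eq_one.1 (hLN _ (L.mul_mem (L.inv_mem hw) hv)
      (by rw [mul_smul, e, inv_smul_smul]))).symm
  obtain ⟨⟨w0, hw0L⟩, hw0⟩ := htrans.exists_smul_eq E.pt b0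
  have hw0' : w0 • E.pt = b0 := hw0
  have hw0N : w0 ∉ E.N := fun h => hbne (hw0' ▸ E.stab_pt.2 h)
  have hw0z : w0 ∈ E.CZ := E.mem_CZ.2 (by
    have h1 : E.z * w0 * E.z⁻¹ = w0 := hinjL _ (hL.conj_mem _ hw0L _) _ hw0L (by
      rw [E.z_inv', mul_smul, mul_smul, E.stab_pt.2 E.z_mem, hw0', hzb])
    nth_rw 1 [← h1]
    group)
  have hexp : ∀ v ∈ L, v * v = 1 := by
    intro v hv
    rcases eq_or_ne (v • E.pt) E.pt with e | e
    · rw [hLN v hv e, mul_one]
    · obtain ⟨x, hx, hxv⟩ := E.orbit_b0 hh hb0 e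
      have h1 : x * w0 * x⁻¹ = v := hinjL _ (hL.conj_mem _ hw0L _) _ hv (by
        rw [mul_smul, mul_smul, E.stab_pt.2 (E.N.inv_mem (E.M_le_N hx)), hw0', hxv])
      rw [← h1]
      exact mul_self_of_inv (conj_inv (E.inv_of_CZ hw0z hw0N) x)
  have hcommL : ∀ v ∈ L, ∀ w ∈ L, v * w = w * v := fun v hv w hw => by
    have h := eq_inv_of_mul_eq_one_right (hexp _ (L.mul_mem hv hw))
    rw [_root_.mul_inv_rev, inv_eq_of_mul_eq_one_right (hexp w hw),
      inv_eq_of_mul_eq_one_right (hexp v hv)] at h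
    exact h
  let θ : L →* G :=
    { toFun := fun v => (v : G) * (E.z * v * E.z)
      map_one' := by simp [E.zz]
      map_mul' := fun a b => by
        have hza : E.z * (a : G) * E.z ∈ L := by
          have := hL.conj_mem _ a.2 E.z; rwa [E.z_inv'] at this
        show (a : G) * b * (E.z * (a * b) * E.z) = (a * (E.z * a * E.z)) * (b * (E.z * b * E.z))
        have h1 : E.z * ((a : G) * b) * E.z = (E.z * a * E.z) * (E.z * b * E.z) := by
          rw [show E.z * (a : G) * E.z * (E.z * b * E.z) = E.z * a * (E.z * E.z) * b * E.z by group,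
            E.zz]
          group
        rw [h1, mul_assoc, ← mul_assoc (b : G), hcommL _ b.2 _ hza]
        group }
  have hkerc : ∀ v : L, θ v = 1 → (v : G) = 1 ∨ (v : G) = w0 := by
    intro v hv
    have h1 : (v : G) * (E.z * v * E.z) = 1 := hv
    have h2 : E.z * (v : G) * E.z = v := by
      rw [eq_inv_of_mul_eq_one_right h1, inv_eq_of_mul_eq_one_right (hexp _ v.2)]
    rcases eq_or_ne ((v : G) • E.pt) E.pt with e | e
    · exact Or.inl (hLN _ v.2 e)
    · refine Or.inr (hinjL _ v.2 _ hw0L ?_)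
      have h3 : E.z • ((v : G) • E.pt) = (v : G) • E.pt := by
        conv_rhs => rw [← h2]
        rw [mul_smul, mul_smul, E.stab_pt.2 E.z_mem]
      have h4 := E.mem_F.2 ⟨e, h3⟩
      rw [hb0, Finset.mem_singleton] at h4
      rw [h4, hw0']
  have hk2 : Nat.card θ.ker ≤ 2 := by
    rw [Nat.card_eq_fintype_card]
    refine (Fintype.card_le_of_injective (fun v : θ.ker => decide (((v : L) : G) = 1)) ?_).trans
      Fintype.card_bool.le
    intro v v' hvv
    have hvv' : (((v : L) : G) = 1) ↔ (((v' : L) : G) = 1) := by simpa using hvv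
    refine Subtype.ext (Subtype.ext ?_)
    rcases hkerc v v.2 with h | h <;> rcases hkerc v' v'.2 with h' | h'
    · rw [h, h']
    · exact h.trans (hvv'.1 h).symm
    · exact (hvv'.2 h').trans h'.symm
    · rw [h, h']
  have hr2 : Nat.card θ.range ≤ Nat.card θ.ker := by
    refine Nat.card_le_card_of_injective (fun r : θ.range =>
      (⟨⟨(r : G), ?_⟩, ?_⟩ : θ.ker)) fun r r' e => Subtype.ext (congrArg (fun w : θ.ker => ((w : L) : G)) e)
    · obtain ⟨v, hv⟩ := r.2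
      rw [← hv]
      exact L.mul_mem v.2 (by have := hL.conj_mem _ v.2 E.z; rwa [E.z_inv'] at this)
    · obtain ⟨v, hv⟩ := r.2
      show (r : G) * (E.z * r * E.z) = 1
      have hza : E.z * (v : G) * E.z ∈ L := by
        have := hL.conj_mem _ v.2 E.z; rwa [E.z_inv'] at this
      rw [← hv]
      show (v : G) * (E.z * v * E.z) * (E.z * ((v : G) * (E.z * v * E.z)) * E.z) = 1
      calc _ = (v : G) * (E.z * v * E.z) * ((E.z * v * E.z) * (v * (E.z * E.z))) := by group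
        _ = (v : G) * ((E.z * v * E.z) * (E.z * v * E.z)) * v := by rw [E.zz]; group
        _ = 1 := by rw [hexp _ hza, mul_one, hexp _ v.2]
  have hLcard : Nat.card L = Nat.card (G ⧸ E.N) := by
    refine Nat.card_eq_of_bijective (fun v : L => (v : G) • E.pt)
      ⟨fun v w e => Subtype.ext (hinjL _ v.2 _ w.2 e), fun b => ?_⟩
    obtain ⟨v, hv⟩ := htrans.exists_smul_eq E.pt b
    exact ⟨v, hv⟩
  have h := Subgroup.card_mul_index θ.ker
  rw [Subgroup.index_ker, hLcard, E.card_points, E.card_points_eq, E.f_one hh] at h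
  have h4 := Nat.mul_le_mul hk2 (hr2.trans hk2)
  have := E.five_le_m hh
  omega

/-- The case `h ≥ 3`. -/
theorem caseBig (hh : E.h ≠ 2) :
    ∃ (F : Type) (_ : Field F) (_ : Fintype F) (p : ℕ) (_ : Fact p.Prime) (_ : CharP F p),
      Fintype.card F = E.m ∧ Cfsg.IsElementaryAbelian p E.M ∧
        (Nonempty (G ≃* (GL (Fin 2) F ⧸ Subgroup.center (GL (Fin 2) F))) ∨
         (Fintype.card F % 4 = 1 ∧ Nonempty (G ≃* Matrix.ProjectiveSpecialLinearGroup (Fin 2) F))) := by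
  haveI : Fintype (G ⧸ E.N) := Fintype.ofFinite _
  have hZ := E.zassenhaus hh
  obtain ⟨b0, hb0⟩ := E.exists_b0 hh
  have hbF : b0 ∈ E.F := by rw [hb0]; exact Finset.mem_singleton_self _
  obtain ⟨hbne, hzb⟩ := E.mem_F.1 hbF
  have hn : Fintype.card (G ⧸ E.N) = E.m + 1 := by
    rw [← Nat.card_eq_fintype_card, E.card_points, E.card_points_eq, E.f_one hh]; ring
  have hm5 := E.five_le_m hh
  have hpair : Nat.card ↥(stabilizer G E.pt ⊓ stabilizer G b0) = E.h := E.card_D hbne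
  have hMfix : ∀ u ∈ E.M, u ≠ 1 → ∀ c : G ⧸ E.N, u • c = c → c = E.pt := fun u hu hu1 c hc => by
    by_contra h
    exact hu1 (E.semiregular h hu hc)
  have hMn : (E.M.subgroupOf (stabilizer G E.pt)).Normal := by
    rw [E.stabilizer_pt]; exact E.MN_normal
  obtain ⟨-, p, f, hp, hexp, hcard⟩ := S0738.result hZ hbne.symm
    (by rw [hpair, hn]; rcases E.m_cases hh with e | e <;> omega) E.M
    (fun x hx => E.stab_pt.2 (E.M_le_N hx)) hMn (fun y w hy hw => by
      obtain ⟨x, hx, e⟩ := E.reach hh hy hw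
      refine ⟨⟨x, hx⟩, e, fun u hu => Subtype.ext ?_⟩
      exact (inv_mul_eq_one.1 (E.semiregular hy (E.M.mul_mem (E.M.inv_mem u.2) hx)
        (by rw [mul_smul, e, inv_smul_eq_iff]; exact hu.symm))))
  haveI : Fact p.Prime := ⟨hp⟩
  have hmp : E.m = p ^ f := by omega
  have hel : Cfsg.IsElementaryAbelian p E.M :=
    ⟨⟨⟨fun a b => Subtype.ext (E.M_comm a.2 b.2)⟩⟩, hexp⟩
  rcases E.m_cases hh with hm | hm
  · obtain ⟨h3, hsharp⟩ := Zassenhaus.sharply_three_of_card hZ hbne.symm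
      (by rw [hpair, Nat.card_eq_fintype_card, hn]; omega)
    let ρ := MulAction.toPermHom G (G ⧸ E.N)
    have hρ : Function.Injective ρ := fun g k e =>
      hZ.1.eq_of_smul_eq_smul fun w => Equiv.congr_fun e w
    have h3' : IsMultiplyPretransitive ρ.range (G ⧸ E.N) 3 := by
      refine ⟨fun x y => ?_⟩
      obtain ⟨g, hg⟩ := h3.exists_smul_eq x y
      refine ⟨⟨ρ g, g, rfl⟩, ?_⟩
      rw [← hg]
      rfl
    have hkey : ∀ g : ρ.range, ∀ x y w : G ⧸ E.N, x ≠ y → x ≠ w → y ≠ w → g • x = x → g • y = y →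
        g • w = w → g = 1 := by
      rintro ⟨_, g, rfl⟩ x y w hxy hxw hyw h1 h2 h3
      exact Subtype.ext (show ρ g = 1 by
        rw [E.eq_one_of_three hh hxy hxw hyw h1 h2 h3, map_one])
    obtain ⟨s, hs⟩ : (E.S b0 ∩ E.cls).Nonempty := by
      rw [← Finset.card_pos]
      have h1 := E.count_eq
      rw [E.f_one hh, σ, hb0, Finset.sum_singleton] at h1
      omega
    obtain ⟨hsS, hsc⟩ := Finset.mem_inter.1 hs
    obtain ⟨g, hg⟩ := E.mem_cls.1 hsc
    have hsfix : s • (g • E.pt) = g • E.pt := by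
      rw [← hg, mul_smul, mul_smul, inv_smul_smul, E.stab_pt.2 E.z_mem]
    have hspt : s • E.pt = b0 := (E.mem_S.1 hsS).2
    have hne1 : E.pt ≠ g • E.pt := fun e => hbne (by rw [← hspt, e, hsfix])
    have hne2 : b0 ≠ g • E.pt := fun e => hbne (by
      have h1 := E.swap_back hsS
      rw [e, hsfix] at h1
      rw [e, h1])
    obtain ⟨F, iF, iFt, hF, ⟨e⟩⟩ := Perm.exists_mulEquiv_pgl ρ.range h3' hkey hbne.symm hne1 hne2
      ⟨ρ s, s, rfl⟩ hspt (E.swap_back hsS) hsfix (by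
        rintro ⟨_, d, rfl⟩ hd
        have hdD : d ∈ E.D b0 := hd
        refine Subtype.ext (show ρ s * ρ d * (ρ s)⁻¹ = (ρ d)⁻¹ from ?_)
        rw [← map_inv, ← map_mul, ← map_mul, E.swap_inverts hbne hsS hdD, map_inv])
    have hF' : Fintype.card F = E.m := by omega
    haveI : CharP F p := charP_of_card_eq_prime_pow (f := f) (hF'.trans hmp)
    exact ⟨F, iF, iFt, p, inferInstance, inferInstance, hF', hel,
      Or.inl ⟨(MonoidHom.ofInjective hρ).trans e⟩⟩
  · obtain ⟨s, hsS⟩ := E.exists_swap hbne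
    obtain ⟨p', f', K, iK, iKt, -, -, -, hK, hK', ⟨e⟩⟩ := Zassenhaus.exists_psl2 hZ hbne.symm E.M
      (fun x hx => E.stab_pt.2 (E.M_le_N hx))
      (fun t ht u hu => E.conj_M (E.stab_pt.1 ht) hu)
      (by rw [Nat.card_eq_fintype_card (α := G ⧸ E.N), hn]; exact (Nat.add_sub_cancel _ 1).symm)
      hMfix (fun u hu v hv => E.M_comm hu hv)
      (by rw [hpair, Nat.card_eq_fintype_card, hn]; omega)
      s (E.mem_S.1 hsS).2 (E.swap_back hsS) (mul_self_of_inv (E.mem_S.1 hsS).1)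
      (fun d hd => E.swap_inverts hbne hsS hd)
    rw [Nat.card_eq_fintype_card, hn] at hK'
    have hF' : Fintype.card K = E.m := by omega
    haveI : CharP K p := charP_of_card_eq_prime_pow (f := f) (hF'.trans hmp)
    refine ⟨K, iK, iKt, p, inferInstance, inferInstance, hF', hel, Or.inr ⟨?_, ⟨e⟩⟩⟩
    obtain ⟨j, hj⟩ := E.even_h
    omega

end Cfsg.Agent.TICount.Setup
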