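import Cfsg.Agent.Lib.TICount.Basic

/-!
# The fixed points of `z` and the counts

* `card_points_eq` : `n = 1 + f m` where `f + 1` is the number of fixed points of `z`
* `card_CZ`        : `|C(z)| = (f + 1) h`; elements of `C(z)` outside `N` are involutions inverting `C`
* `cls_eq`         : `a = m (1 + σ)`, where `a` is the number of conjugates of `z` and `σ` the number
  of them in `C(z)` outside `N`
* `count_eq`       : `1 + f m = (1 + σ) (f + 1)`
-/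

set_option autoImplicit false

open scoped Classical
open MulAction Subgroup

namespace Cfsg.Agent.TICount.Setup

variable {G : Type*} [Group G] [Finite G] [Fintype G] (E : Setup G)

/-- The points other than the base point fixed by `z`. -/
noncomputable def F : Finset (G ⧸ E.N) :=
  haveI : Fintype (G ⧸ E.N) := Fintype.ofFinite _
  Finset.univ.filter fun b => b ≠ E.pt ∧ E.z • b = b

/-- Their number. -/
noncomputable def f : ℕ := E.F.card

theorem mem_F {b : G ⧸ E.N} : b ∈ E.F ↔ b ≠ E.pt ∧ E.z • b = b := by simp [F]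

/-- The centraliser of `z`. -/
abbrev CZ : Subgroup G := centralizer ({E.z} : Set G)

theorem mem_CZ {g : G} : g ∈ E.CZ ↔ g * E.z = E.z * g := mem_centralizer_singleton_iff

theorem mem_CZ_N {g : G} : g ∈ E.C ↔ g ∈ E.N ∧ g ∈ E.CZ := Iff.rfl

theorem pair_unique {p p' : E.M × (G ⧸ E.N)} (hb : p.2 ∈ E.F) (hb' : p'.2 ∈ E.F)
    (e' : (p.1 : G) • p.2 = (p'.1 : G) • p'.2) : p = p' := by
  obtain ⟨⟨x, hx⟩, b⟩ := p
  obtain ⟨⟨x', hx'⟩, b'⟩ := p'
  obtain ⟨hbpt, hzb⟩ := E.mem_F.1 hb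
  obtain ⟨-, hzb'⟩ := E.mem_F.1 hb'
  dsimp only at e' hzb hzb' hbpt
  have hr : x'⁻¹ * x ∈ E.M := E.M.mul_mem (E.M.inv_mem hx') hx
  have hrb : (x'⁻¹ * x) • b = b' := by rw [mul_smul, e', inv_smul_smul]
  generalize hgen : x'⁻¹ * x = r at hr hrb
  have hrb' : r⁻¹ • b = b' := by
    rw [← E.inverts hr, mul_smul, mul_smul, inv_smul_eq_iff.2 hzb.symm, hrb, hzb']
  have hr1 : r = 1 := E.eq_one_of_sq hr (E.semiregular hbpt (E.M.mul_mem hr hr)
    (by rw [mul_smul, hrb]; exact (inv_smul_eq_iff.1 hrb').symm))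
  rw [hr1, one_smul] at hrb
  subst hrb
  have : x' = x := inv_mul_eq_one.1 (hgen.trans hr1)
  subst this
  rfl

theorem exists_pair {b : G ⧸ E.N} (hb' : b ≠ E.pt) :
    ∃ (x : E.M) (c : G ⧸ E.N), c ∈ E.F ∧ (x : G) • c = b := by
  obtain ⟨x, hx, hxD⟩ := E.exists_z_D hb'
  obtain ⟨r, hr, e⟩ := E.exists_root hx
  refine ⟨⟨r, hr⟩, r⁻¹ • b, E.mem_F.2 ⟨fun e' => hb' ?_, ?_⟩, smul_inv_smul r b⟩
  · rw [inv_smul_eq_iff.1 e', E.stab_pt.2 (E.M_le_N hr)]
  · have h2 := (E.mem_D.1 hxD).2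
    rw [← e, mul_smul, mul_smul] at h2
    exact eq_inv_smul_iff.2 h2

theorem card_points_eq : E.N.index = 1 + E.f * E.m := by
  haveI : Fintype (G ⧸ E.N) := Fintype.ofFinite _
  have h1 : Nat.card (E.M × E.F) = Nat.card (Finset.univ.erase E.pt : Finset (G ⧸ E.N)) := by
    refine Nat.card_eq_of_bijective (fun p => ⟨(p.1 : G) • (p.2 : G ⧸ E.N), ?_⟩) ⟨?_, ?_⟩
    · refine Finset.mem_erase.2 ⟨fun e => (E.mem_F.1 p.2.2).1 ?_, Finset.mem_univ _⟩
      rw [eq_inv_smul_iff.2 e, E.stab_pt.2 (E.N.inv_mem (E.M_le_N p.1.2))]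
    · rintro ⟨x, b, hb⟩ ⟨x', b', hb'⟩ e
      have h3 := E.pair_unique (p := (x, b)) (p' := (x', b')) hb hb' (congrArg Subtype.val e)
      simp only [Prod.mk.injEq] at h3
      obtain ⟨rfl, rfl⟩ := h3
      rfl
    · rintro ⟨b, hb⟩
      obtain ⟨x, c, hc, e⟩ := E.exists_pair (Finset.mem_erase.1 hb).1
      exact ⟨(x, ⟨c, hc⟩), Subtype.ext e⟩
  rw [Nat.card_prod, Nat.card_eq_finsetCard, Nat.card_eq_finsetCard,
    Finset.card_erase_of_mem (Finset.mem_univ _), Finset.card_univ, ← Nat.card_eq_fintype_card,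
    E.card_points] at h1
  have : 0 < E.N.index := Nat.pos_of_ne_zero Subgroup.index_ne_zero_of_finite
  rw [show E.f * E.m = E.N.index - 1 by rw [← h1, mul_comm]; rfl]
  omega

theorem f_pos : 0 < E.f := by
  by_contra h
  push Not at h
  have h1 := E.card_points_eq
  rw [Nat.le_zero.1 h, zero_mul, add_zero] at h1
  exact E.not_top (Subgroup.index_eq_one.1 h1)

/-- The stabiliser of `b ∈ F` is `C`. -/
theorem D_eq_C {b : G ⧸ E.N} (hb : b ∈ E.F) : E.D b = E.C := by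
  obtain ⟨hbpt, hzb⟩ := E.mem_F.1 hb
  have hzD : E.z ∈ E.D b := E.mem_D.2 ⟨E.z_mem, hzb⟩
  refine Subgroup.eq_of_le_of_card_ge (fun d hd => E.mem_C.2 ⟨(E.mem_D.1 hd).1,
    E.D_comm hbpt hd hzD⟩) (le_of_eq (E.card_D hbpt).symm)

theorem swap_mem_CZ {b : G ⧸ E.N} (hb : b ∈ E.F) {t : G} (ht : t ∈ E.S b) : t ∈ E.CZ := by
  have h1 := E.swap_inverts (E.mem_F.1 hb).1 ht (E.mem_D.2 ⟨E.z_mem, (E.mem_F.1 hb).2⟩)
  rw [E.z_inv', mul_inv_eq_iff_eq_mul] at h1
  exact E.mem_CZ.2 h1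

theorem smul_pt_mem_F {g : G} (hg : g ∈ E.CZ) (hgN : g ∉ E.N) : g • E.pt ∈ E.F :=
  E.mem_F.2 ⟨fun e => hgN (E.stab_pt.1 e), by
    rw [← mul_smul, ← E.mem_CZ.1 hg, mul_smul, E.stab_pt.2 E.z_mem]⟩

theorem mem_S_of_CZ {g : G} (hg : g ∈ E.CZ) (hgN : g ∉ E.N) : g ∈ E.S (g • E.pt) := by
  have hF := E.smul_pt_mem_F hg hgN
  obtain ⟨t, ht⟩ := E.exists_swap (E.mem_F.1 hF).1
  obtain ⟨ht2, htb⟩ := E.mem_S.1 ht
  -- `g = t c`
  have hc : t * g ∈ E.D (g • E.pt) := by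
    rw [E.D_eq_C hF]
    refine E.mem_C.2 ⟨E.stab_pt.1 ?_, E.mem_CZ.1 (E.CZ.mul_mem (E.swap_mem_CZ hF ht) hg)⟩
    rw [mul_smul, E.swap_back ht]
  have h1 := E.swap_inverts (E.mem_F.1 hF).1 ht hc
  refine E.mem_S.2 ⟨inv_of_mul_self (fun e => hgN (e ▸ E.N.one_mem)) ?_, rfl⟩
  have h2 : g * g = (t * t)⁻¹ * ((t * (t * g) * t⁻¹) * (t * g)) := by group
  rw [h2, h1, mul_self_of_inv ht2, inv_one, one_mul, inv_mul_cancel]

theorem CZ_inverts {g c : G} (hg : g ∈ E.CZ) (hgN : g ∉ E.N) (hc : c ∈ E.C) :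
    g * c * g⁻¹ = c⁻¹ := by
  have hF := E.smul_pt_mem_F hg hgN
  exact E.swap_inverts (E.mem_F.1 hF).1 (E.mem_S_of_CZ hg hgN) ((E.D_eq_C hF).symm ▸ hc)

theorem inv_of_CZ {g : G} (hg : g ∈ E.CZ) (hgN : g ∉ E.N) : orderOf g = 2 :=
  (E.mem_S.1 (E.mem_S_of_CZ hg hgN)).1

theorem card_CZ : Nat.card E.CZ = (E.f + 1) * E.h := by
  haveI : Fintype (G ⧸ E.N) := Fintype.ofFinite _
  have hnotin : E.pt ∉ E.F := fun h => (E.mem_F.1 h).1 rfl
  have hpt : (Finset.univ.filter fun g : G => g ∈ E.CZ ∧ g • E.pt = E.pt).card = E.h := by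
    rw [h, Nat.card_eq_fintype_card, Fintype.card_subtype]
    refine congrArg Finset.card ?_
    ext g
    simp only [Finset.mem_filter, Finset.mem_univ, true_and]
    rw [E.mem_CZ_N, E.stab_pt, and_comm]
  have hb : ∀ b ∈ E.F, (Finset.univ.filter fun g : G => g ∈ E.CZ ∧ g • E.pt = b).card = E.h := by
    intro b hb
    rw [← E.full (E.mem_F.1 hb).1]
    refine congrArg Finset.card ?_
    ext g
    simp only [Finset.mem_filter, Finset.mem_univ, true_and]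
    constructor
    · rintro ⟨hg, hgb⟩
      subst hgb
      exact E.mem_S_of_CZ hg (fun h => (E.mem_F.1 hb).1 (E.stab_pt.2 h))
    · intro hg
      exact ⟨E.swap_mem_CZ hb hg, (E.mem_S.1 hg).2⟩
  rw [Nat.card_eq_fintype_card, Fintype.card_subtype,
    Finset.card_eq_sum_card_fiberwise (f := fun g : G => g • E.pt) (t := insert E.pt E.F) ?_]
  · simp only [Finset.filter_filter]
    rw [Finset.sum_insert hnotin, hpt, Finset.sum_congr rfl hb, Finset.sum_const, smul_eq_mul, f]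
    ring
  · intro g hg
    rw [Finset.mem_coe, Finset.mem_filter] at hg
    rw [Finset.mem_coe, Finset.mem_insert]
    by_cases hgN : g ∈ E.N
    · exact Or.inl (E.stab_pt.2 hgN)
    · exact Or.inr (E.smul_pt_mem_F hg.2 hgN)

theorem sq_C_of_two {b b' : G ⧸ E.N} (hb : b ∈ E.F) (hb' : b' ∈ E.F) (hne : b ≠ b') {c : G}
    (hc : c ∈ E.C) : c * c = 1 := by
  obtain ⟨t, ht⟩ := E.exists_swap (E.mem_F.1 hb).1
  obtain ⟨t', ht'⟩ := E.exists_swap (E.mem_F.1 hb').1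
  have hT := E.swap_mem_CZ hb ht
  have hT' := E.swap_mem_CZ hb' ht'
  have hg : t * t' ∈ E.CZ := E.CZ.mul_mem hT hT'
  have hgN : t * t' ∉ E.N := fun h => hne (by
    have h1 := E.stab_pt.2 h
    rw [mul_smul, (E.mem_S.1 ht').2] at h1
    rw [← (E.mem_S.1 ht).2, eq_inv_smul_iff.2 h1, inv_of_inv (E.mem_S.1 ht).1])
  have h1 := E.CZ_inverts hg hgN hc
  have h2 := E.CZ_inverts hT (E.swap_not_N (E.mem_F.1 hb).1 ht) (E.C.inv_mem hc)
  have h3 := E.CZ_inverts hT' (E.swap_not_N (E.mem_F.1 hb').1 ht') hc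
  rw [show t * t' * c * (t * t')⁻¹ = t * (t' * c * t'⁻¹) * t⁻¹ by group, h3, h2, inv_inv] at h1
  nth_rw 2 [h1]
  exact mul_inv_cancel c

theorem h_eq_two_of_one_lt_f (hf : 1 < E.f) : E.h = 2 := by
  obtain ⟨b, hb, b', hb', hne⟩ := Finset.one_lt_card.1 hf
  refine le_antisymm ?_ (Nat.le_of_dvd E.h_pos E.even_h.two_dvd)
  rw [h, Nat.card_eq_fintype_card, Fintype.card_subtype]
  refine le_trans (Finset.card_le_card (t := ({1, E.z} : Finset G)) ?_) Finset.card_le_two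
  intro c hc
  rw [Finset.mem_filter] at hc
  rw [Finset.mem_insert, Finset.mem_singleton]
  rcases eq_or_ne c 1 with h1 | h1
  · exact Or.inl h1
  · exact Or.inr (E.C_invol (inv_of_mul_self h1 (E.sq_C_of_two hb hb' hne hc.2)) hc.2)

/-- The conjugates of `z`. -/
noncomputable def cls : Finset G := Finset.univ.filter fun t => ∃ g : G, g * E.z * g⁻¹ = t

theorem mem_cls {t : G} : t ∈ E.cls ↔ ∃ g : G, g * E.z * g⁻¹ = t := by simp [cls]

theorem z_mem_cls : E.z ∈ E.cls := E.mem_cls.2 ⟨1, by simp⟩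

theorem cls_inv {t : G} (ht : t ∈ E.cls) : orderOf t = 2 := by
  obtain ⟨g, rfl⟩ := E.mem_cls.1 ht
  exact conj_inv E.z_inv g

theorem conj_mem_cls {t : G} (ht : t ∈ E.cls) (g : G) : g * t * g⁻¹ ∈ E.cls := by
  obtain ⟨k, rfl⟩ := E.mem_cls.1 ht
  exact E.mem_cls.2 ⟨g * k, by group⟩

theorem cls_of_fix {t : G} (ht : orderOf t = 2) {c : G ⧸ E.N} (hc : t • c = c) : t ∈ E.cls := by
  obtain ⟨g, rfl⟩ := E.exists_smul_pt c
  have h1 := conj_inv ht g⁻¹
  rw [inv_inv] at h1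
  obtain ⟨r, -, e⟩ := E.invol_conj h1 (E.fix_iff.1 hc)
  exact E.mem_cls.2 ⟨g * r, by rw [show g * r * E.z * (g * r)⁻¹ = g * (r * E.z * r⁻¹) * g⁻¹ by group, e]; group⟩

theorem card_cls_mul : E.cls.card * ((E.f + 1) * E.h) = Nat.card G := by
  rw [← E.card_CZ, ← Subgroup.index_mul_card E.CZ]
  congr 1
  rw [Subgroup.index, ← Nat.card_eq_finsetCard]
  symm
  refine Nat.card_eq_of_bijective (fun q => Quotient.liftOn' q
    (fun g => (⟨g * E.z * g⁻¹, E.mem_cls.2 ⟨g, rfl⟩⟩ : E.cls)) fun g k hgk => Subtype.ext ?_) ⟨?_, ?_⟩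
  · have h1 := E.mem_CZ.1 (QuotientGroup.leftRel_apply.1 hgk)
    calc g * E.z * g⁻¹ = g * (E.z * (g⁻¹ * k)) * k⁻¹ := by group
      _ = g * ((g⁻¹ * k) * E.z) * k⁻¹ := by rw [h1]
      _ = k * E.z * k⁻¹ := by group
  · intro q q'
    induction q using Quotient.inductionOn'
    induction q' using Quotient.inductionOn'
    rename_i g k
    intro e
    have e' : g * E.z * g⁻¹ = k * E.z * k⁻¹ := congrArg Subtype.val e
    refine Quotient.sound' (QuotientGroup.leftRel_apply.2 (E.mem_CZ.2 ?_))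
    calc g⁻¹ * k * E.z = g⁻¹ * (k * E.z * k⁻¹) * k := by group
      _ = g⁻¹ * (g * E.z * g⁻¹) * k := by rw [e']
      _ = E.z * (g⁻¹ * k) := by group
  · rintro ⟨t, ht⟩
    obtain ⟨g, rfl⟩ := E.mem_cls.1 ht
    exact ⟨Quotient.mk'' g, rfl⟩

/-- The conjugates of `z` among the swaps of the fixed points of `z`. -/
noncomputable def σ : ℕ := ∑ b ∈ E.F, (E.S b ∩ E.cls).card

theorem card_S_cls_smul (b : G ⧸ E.N) {x : G} (hx : x ∈ E.N) :
    (E.S (x • b) ∩ E.cls).card = (E.S b ∩ E.cls).card := by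
  refine (Finset.card_bij (fun t _ => x * t * x⁻¹) (fun t ht => ?_)
    (fun a _ c _ e => mul_left_cancel (mul_right_cancel e)) fun u hu => ⟨x⁻¹ * u * x, ?_, by group⟩).symm
  · rw [Finset.mem_inter] at ht ⊢
    exact ⟨E.smul_S hx ht.1, E.conj_mem_cls ht.2 x⟩
  · rw [Finset.mem_inter] at hu ⊢
    have h1 := E.smul_S (E.N.inv_mem hx) hu.1
    have h2 := E.conj_mem_cls hu.2 x⁻¹
    rw [inv_smul_smul, inv_inv] at h1
    rw [inv_inv] at h2
    exact ⟨h1, h2⟩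

theorem cls_eq : E.cls.card = E.m * (1 + E.σ) := by
  haveI : Fintype (G ⧸ E.N) := Fintype.ofFinite _
  have hfib : E.cls.card = ∑ b, (E.S b ∩ E.cls).card := by
    rw [Finset.card_eq_sum_card_fiberwise (f := fun t : G => t • E.pt) (t := Finset.univ)
      (fun t _ => Finset.mem_univ _)]
    refine Finset.sum_congr rfl fun b _ => congrArg Finset.card ?_
    ext t
    simp only [Finset.mem_filter, Finset.mem_inter, E.mem_S]
    exact ⟨fun ⟨h1, h2⟩ => ⟨⟨E.cls_inv h1, h2⟩, h1⟩, fun ⟨⟨_, h2⟩, h1⟩ => ⟨h1, h2⟩⟩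
  have hpt : (E.S E.pt ∩ E.cls).card = E.m := by
    rw [Finset.inter_eq_left.2 (fun t ht => E.cls_of_fix (E.mem_S.1 ht).1 (E.mem_S.1 ht).2), E.card_S_pt]
  have hrest : ∑ b ∈ Finset.univ.erase E.pt, (E.S b ∩ E.cls).card = E.m * E.σ := by
    rw [σ, Finset.mul_sum]
    have hM : (Finset.univ : Finset E.M).card = E.m := by
      rw [Finset.card_univ, ← Nat.card_eq_fintype_card]; rfl
    calc ∑ b ∈ Finset.univ.erase E.pt, (E.S b ∩ E.cls).card
        = ∑ p ∈ (Finset.univ : Finset E.M) ×ˢ E.F, (E.S p.2 ∩ E.cls).card := by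
          refine (Finset.sum_bij (fun p _ => (p.1 : G) • p.2) ?_ ?_ ?_ ?_).symm
          · intro p hp
            refine Finset.mem_erase.2 ⟨fun e => (E.mem_F.1 (Finset.mem_product.1 hp).2).1 ?_, Finset.mem_univ _⟩
            rw [eq_inv_smul_iff.2 e, E.stab_pt.2 (E.N.inv_mem (E.M_le_N p.1.2))]
          · intro p hp p' hp' e
            exact E.pair_unique (Finset.mem_product.1 hp).2 (Finset.mem_product.1 hp').2 e
          · intro b hb
            obtain ⟨x, c, hc, e⟩ := E.exists_pair (Finset.mem_erase.1 hb).1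
            exact ⟨(x, c), Finset.mem_product.2 ⟨Finset.mem_univ _, hc⟩, e⟩
          · intro p _
            exact (E.card_S_cls_smul p.2 (E.M_le_N p.1.2)).symm
      _ = _ := by
          rw [Finset.sum_product, Finset.sum_comm]
          refine Finset.sum_congr rfl fun b _ => ?_
          show ∑ _x : E.M, (E.S b ∩ E.cls).card = _
          rw [Finset.sum_const, smul_eq_mul, hM]
  rw [hfib, ← Finset.add_sum_erase Finset.univ _ (Finset.mem_univ E.pt), hpt, hrest]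
  ring

theorem count_eq : 1 + E.f * E.m = (1 + E.σ) * (E.f + 1) := by
  have h1 := E.card_cls_mul
  rw [E.cls_eq, E.card_G, E.card_points_eq] at h1
  refine Nat.eq_of_mul_eq_mul_right E.h_pos (Nat.eq_of_mul_eq_mul_left (show 0 < E.m from Nat.card_pos) ?_)
  rw [← h1]
  ring

end Cfsg.Agent.TICount.Setup
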