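import Cfsg.Agent.Lib.TICount.Fix
import Cfsg.Agent.Lib.Frobenius.Complement
import Cfsg.Agent.Lib.Involution.Basic
import Cfsg.Agent.Lib.PSL2.Centralizers
import Cfsg.Agent.Lib.PSL2.PGL
import Cfsg.Agent.S0727

/-!
# The case of a complement of order two

* `sigma_cases` : `σ = f` and `m = f + 2`, or `σ = 2 f` and `m = 2 f + 3`
* `caseA`       : `σ = f`: an elementary abelian normal complement of `N`, `N` dihedral
* `caseB`       : `σ = 2 f`: `G ≅ PSL₂(2^e)`
-/

set_option autoImplicit false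
set_option linter.unusedSectionVars false

open scoped Classical
open MulAction Subgroup

namespace Cfsg.Agent.TICount.Setup

variable {G : Type*} [Group G] [Finite G] [Fintype G] (E : Setup G)

theorem card_invol_eq : Nat.card {g : G // orderOf g = 2} = E.m * (1 + E.f * E.h) := by
  haveI : Fintype (G ⧸ E.N) := Fintype.ofFinite _
  rw [E.card_invol, Finset.sum_congr rfl (fun b hb => E.full (Finset.mem_erase.1 hb).1),
    Finset.sum_const, smul_eq_mul, Finset.card_erase_of_mem (Finset.mem_univ _), Finset.card_univ,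
    ← Nat.card_eq_fintype_card, E.card_points, E.card_points_eq, Nat.add_sub_cancel_left]
  ring

theorem sigma_le : E.σ ≤ E.f * E.h := by
  unfold σ f
  rw [← smul_eq_mul, ← Finset.sum_const]
  exact Finset.sum_le_sum fun b hb => (Finset.card_le_card Finset.inter_subset_left).trans
    (E.full (E.mem_F.1 hb).1).le

theorem C_two (hh : E.h = 2) {c : G} (hc : c ∈ E.C) : c = 1 ∨ c = E.z := by
  have h1 : (⟨c, hc⟩ : E.C) ^ 2 = 1 := hh ▸ pow_card_eq_one' (x := (⟨c, hc⟩ : E.C))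
  have h2 : c * c = 1 := by rw [← pow_two]; exact congrArg Subtype.val h1
  by_cases h3 : c = 1
  · exact Or.inl h3
  · exact Or.inr (E.C_invol (inv_of_mul_self h3 h2) hc)

theorem CZ_sq (hh : E.h = 2) {g : G} (hg : g ∈ E.CZ) : g * g = 1 := by
  by_cases hgN : g ∈ E.N
  · rcases E.C_two hh (c := g) ⟨hgN, hg⟩ with h | h <;> rw [h]
    · rw [mul_one]
    · exact E.zz
  · exact mul_self_of_inv (E.inv_of_CZ hg hgN)

theorem CZ_comm (hh : E.h = 2) {g k : G} (hg : g ∈ E.CZ) (hk : k ∈ E.CZ) : g * k = k * g := by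
  have h1 := E.CZ_sq hh (E.CZ.mul_mem hg hk)
  have h2 := eq_inv_of_mul_eq_one_right h1
  rw [_root_.mul_inv_rev, inv_eq_of_mul_eq_one_right (E.CZ_sq hh hk),
    inv_eq_of_mul_eq_one_right (E.CZ_sq hh hg)] at h2
  exact h2

theorem exists_two_pow (hh : E.h = 2) : ∃ e : ℕ, 1 ≤ e ∧ E.f + 1 = 2 ^ e := by
  haveI : Fact (Nat.Prime 2) := ⟨Nat.prime_two⟩
  have hP : IsPGroup 2 E.CZ := fun x => ⟨1, Subtype.ext (by
    rw [pow_one, Subgroup.coe_pow, pow_two]; exact E.CZ_sq hh x.2)⟩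
  obtain ⟨k, hk⟩ := IsPGroup.iff_card.1 hP
  rw [E.card_CZ, hh] at hk
  have hf := E.f_pos
  rcases k with _ | _ | k
  · simp at hk
  · simp at hk; omega
  · exact ⟨k + 1, by omega, by rw [pow_succ 2 (k + 1)] at hk; omega⟩

theorem sigma_cases (hh : E.h = 2) :
    (E.σ = E.f ∧ E.m = E.f + 2) ∨ (E.σ = 2 * E.f ∧ E.m = 2 * E.f + 3) := by
  have h1 := E.count_eq
  have h2 := E.sigma_le
  have hf := E.f_pos
  have hm := E.three_le_m
  rw [hh] at h2
  obtain ⟨j, hj⟩ : E.f ∣ E.σ := by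
    have h3 : E.f * E.m = E.f * (1 + E.σ) + E.σ := by linarith
    exact (Nat.dvd_add_right ⟨1 + E.σ, rfl⟩).1 (h3 ▸ Dvd.intro _ rfl)
  have hj2 : j ≤ 2 := Nat.le_of_mul_le_mul_left (hj ▸ h2) hf
  interval_cases j
  · rw [mul_zero] at hj
    rw [hj] at h1
    have : E.f * E.m = E.f * 1 := by omega
    have := Nat.eq_of_mul_eq_mul_left hf this
    omega
  · left
    rw [mul_one] at hj
    refine ⟨hj, ?_⟩
    rw [hj] at h1
    have h3 : E.f * E.m = E.f * (E.f + 2) := by linarith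
    exact Nat.eq_of_mul_eq_mul_left hf h3
  · right
    refine ⟨by omega, ?_⟩
    rw [hj] at h1
    have h3 : E.f * E.m = E.f * (2 * E.f + 3) := by linarith
    exact Nat.eq_of_mul_eq_mul_left hf h3

theorem fix2_unique {y y' : G} (hy : orderOf y = 2) (hy' : orderOf y' = 2) {R Q : G ⧸ E.N}
    (hne : R ≠ Q) (h1 : y • R = R) (h2 : y • Q = Q) (h3 : y' • R = R) (h4 : y' • Q = Q) :
    y = y' := by
  obtain ⟨g, rfl⟩ := E.exists_smul_pt R
  have hQ : g⁻¹ • Q ≠ E.pt := fun e => hne (inv_smul_eq_iff.1 e).symm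
  have hD : ∀ w : G, w • (g • E.pt) = g • E.pt → w • Q = Q → g⁻¹ * w * g ∈ E.D (g⁻¹ • Q) :=
    fun w hw hwQ => E.mem_D.2 ⟨E.fix_iff.1 hw, by rw [mul_smul, mul_smul, smul_inv_smul, hwQ]⟩
  have hc : ∀ w : G, orderOf w = 2 → orderOf (g⁻¹ * w * g) = 2 := fun w hw => by
    have := conj_inv hw g⁻¹
    rwa [inv_inv] at this
  exact mul_left_cancel (mul_right_cancel
    (E.invol_D_unique hQ (hc y hy) (hc y' hy') (hD y h1 h2) (hD y' h3 h4)))

theorem fix_comm_unique {y y' : G} (hy : orderOf y = 2) (hy' : orderOf y' = 2) {R : G ⧸ E.N}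
    (h1 : y • R = R) (h2 : y' • R = R) (hc : y * y' = y' * y) : y = y' := by
  obtain ⟨g, rfl⟩ := E.exists_smul_pt R
  have hc' : ∀ w : G, orderOf w = 2 → orderOf (g⁻¹ * w * g) = 2 := fun w hw => by
    have := conj_inv hw g⁻¹
    rwa [inv_inv] at this
  obtain ⟨x, hx, e⟩ := E.invol_N (hc' y hy) (E.fix_iff.1 h1)
  obtain ⟨x', hx', e'⟩ := E.invol_N (hc' y' hy') (E.fix_iff.1 h2)
  have h3 : x * E.z * (x' * E.z) = x' * E.z * (x * E.z) := by
    rw [← e, ← e', show g⁻¹ * y * g * (g⁻¹ * y' * g) = g⁻¹ * (y * y') * g by group,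
      show g⁻¹ * y' * g * (g⁻¹ * y * g) = g⁻¹ * (y' * y) * g by group, hc]
  have h4 : ∀ u v : G, v ∈ E.M → u * E.z * (v * E.z) = u * v⁻¹ := fun u v hv => by
    rw [mul_assoc u, ← mul_assoc E.z, E.z_mul hv, mul_assoc v⁻¹, E.zz, mul_one]
  rw [h4 _ _ hx', h4 _ _ hx] at h3
  have h5 : (x * x'⁻¹) * (x * x'⁻¹) = 1 := by
    nth_rw 2 [h3]
    group
  have h6 := E.eq_one_of_sq (E.M.mul_mem hx (E.M.inv_mem hx')) h5
  rw [mul_inv_eq_one] at h6
  refine mul_left_cancel (mul_right_cancel (e.trans ?_))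
  rw [h6, ← e']

/-- The involutions fixing `R`. -/
noncomputable def I (R : G ⧸ E.N) : Finset G :=
  Finset.univ.filter fun t => orderOf t = 2 ∧ t • R = R

theorem mem_I {R : G ⧸ E.N} {t : G} : t ∈ E.I R ↔ orderOf t = 2 ∧ t • R = R := by simp [I]

theorem card_I (R : G ⧸ E.N) : (E.I R).card = E.m := by
  obtain ⟨g, rfl⟩ := E.exists_smul_pt R
  rw [← E.card_S_pt]
  refine (Finset.card_bij (fun t _ => g * t * g⁻¹) (fun t ht => ?_)
    (fun a _ c _ e => mul_left_cancel (mul_right_cancel e))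
    fun u hu => ⟨g⁻¹ * u * g, ?_, by group⟩).symm
  · obtain ⟨h1, h2⟩ := E.mem_S.1 ht
    exact E.mem_I.2 ⟨conj_inv h1 g, by rw [mul_smul, mul_smul, inv_smul_smul, h2]⟩
  · obtain ⟨h1, h2⟩ := E.mem_I.1 hu
    have h3 := conj_inv h1 g⁻¹
    rw [inv_inv] at h3
    exact E.mem_S.2 ⟨h3, E.stab_pt.2 (E.fix_iff.1 h2)⟩

/-- In case `A` two conjugates of `z` commute or share a fixed point. -/
theorem comm_or_fix (hh : E.h = 2) (hσ : E.σ = E.f) (hm : E.m = E.f + 2) {y y' : G}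
    (hy : y ∈ E.cls) (hy' : y' ∈ E.cls) :
    y * y' = y' * y ∨ ∃ R : G ⧸ E.N, y • R = R ∧ y' • R = R := by
  haveI : Fintype (G ⧸ E.N) := Fintype.ofFinite _
  set P := E.cls.filter fun t => t * E.z = E.z * t with hP
  set Rs := (insert E.pt E.F).biUnion fun R => (E.I R).erase E.z with hR
  have hzfix : ∀ R ∈ insert E.pt E.F, E.z • R = R := by
    intro R hR'
    rcases Finset.mem_insert.1 hR' with rfl | h
    · exact E.stab_pt.2 E.z_mem
    · exact (E.mem_F.1 h).2
  have hPeq : P = insert E.z (E.F.biUnion fun b => E.S b ∩ E.cls) := by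
    ext t
    simp only [hP, Finset.mem_filter, Finset.mem_insert, Finset.mem_biUnion, Finset.mem_inter]
    constructor
    · rintro ⟨h1, h2⟩
      by_cases htN : t ∈ E.N
      · exact Or.inl (E.C_invol (E.cls_inv h1) (E.mem_C.2 ⟨htN, h2⟩))
      · exact Or.inr ⟨t • E.pt, E.smul_pt_mem_F (E.mem_CZ.2 h2) htN,
          E.mem_S_of_CZ (E.mem_CZ.2 h2) htN, h1⟩
    · rintro (rfl | ⟨b, hb, h1, h2⟩)
      · exact ⟨E.z_mem_cls, rfl⟩
      · exact ⟨h2, E.mem_CZ.1 (E.swap_mem_CZ hb h1)⟩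
  have hPcard : P.card = 1 + E.σ := by
    rw [hPeq, Finset.card_insert_of_notMem, Finset.card_biUnion, add_comm]
    · rfl
    · intro b hb b' hb' hne
      rw [Function.onFun, Finset.disjoint_left]
      intro t h1 h2
      exact hne ((E.mem_S.1 (Finset.mem_inter.1 h1).1).2.symm.trans
        (E.mem_S.1 (Finset.mem_inter.1 h2).1).2)
    · simp only [Finset.mem_biUnion, Finset.mem_inter, not_exists, not_and]
      intro b hb h1 _
      exact E.swap_not_N (E.mem_F.1 hb).1 h1 E.z_mem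
  have hRcard : Rs.card = (E.f + 1) * (E.m - 1) := by
    rw [hR, Finset.card_biUnion]
    · rw [Finset.sum_congr rfl (g := fun _ => E.m - 1) (fun R hR' => by
          rw [Finset.card_erase_of_mem (E.mem_I.2 ⟨E.z_inv, hzfix R hR'⟩), E.card_I]),
        Finset.sum_const, smul_eq_mul, Finset.card_insert_of_notMem (fun h => (E.mem_F.1 h).1 rfl)]
      rfl
    · intro R hR' R' hR'' hne
      rw [Function.onFun, Finset.disjoint_left]
      intro t h1 h2
      obtain ⟨htz, h1'⟩ := Finset.mem_erase.1 h1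
      obtain ⟨-, h2'⟩ := Finset.mem_erase.1 h2
      exact htz (E.fix2_unique (E.mem_I.1 h1').1 E.z_inv hne (E.mem_I.1 h1').2 (E.mem_I.1 h2').2
        (hzfix R hR') (hzfix R' hR''))
  have hdisj : Disjoint P Rs := by
    rw [Finset.disjoint_left]
    intro t h1 h2
    obtain ⟨R, hR', h3⟩ := Finset.mem_biUnion.1 h2
    obtain ⟨htz, h4⟩ := Finset.mem_erase.1 h3
    exact htz (E.fix_comm_unique (E.mem_I.1 h4).1 E.z_inv (E.mem_I.1 h4).2 (hzfix R hR')
      (Finset.mem_filter.1 h1).2)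
  have hU : P ∪ Rs = E.cls := by
    refine Finset.eq_of_subset_of_card_le (Finset.union_subset (Finset.filter_subset _ _) ?_) ?_
    · intro t ht
      obtain ⟨R, -, h3⟩ := Finset.mem_biUnion.1 ht
      exact E.cls_of_fix (E.mem_I.1 (Finset.mem_of_mem_erase h3)).1
        (E.mem_I.1 (Finset.mem_of_mem_erase h3)).2
    · rw [Finset.card_union_of_disjoint hdisj, hPcard, hRcard, E.cls_eq, hσ, hm,
        show E.f + 2 - 1 = E.f + 1 from rfl]
      exact le_of_eq (by ring)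
  obtain ⟨g, rfl⟩ := E.mem_cls.1 hy
  have h1 := E.conj_mem_cls hy' g⁻¹
  rw [← hU, inv_inv] at h1
  rcases Finset.mem_union.1 h1 with h | h
  · left
    have h2 := (Finset.mem_filter.1 h).2
    calc g * E.z * g⁻¹ * y' = g * (E.z * (g⁻¹ * y' * g)) * g⁻¹ := by group
      _ = g * ((g⁻¹ * y' * g) * E.z) * g⁻¹ := by rw [h2]
      _ = y' * (g * E.z * g⁻¹) := by group
  · right
    obtain ⟨R, hR', h3⟩ := Finset.mem_biUnion.1 h
    refine ⟨g • R, by rw [mul_smul, mul_smul, inv_smul_smul, hzfix R hR'], ?_⟩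
    have h4 := (E.mem_I.1 (Finset.mem_of_mem_erase h3)).2
    rw [mul_smul, mul_smul, inv_smul_eq_iff] at h4
    exact h4

theorem comm_trans (hh : E.h = 2) {y a b : G} (hy : y ∈ E.cls) (ha : a * y = y * a)
    (hb : b * y = y * b) : a * b = b * a := by
  obtain ⟨g, rfl⟩ := E.mem_cls.1 hy
  have h1 : ∀ w : G, w * (g * E.z * g⁻¹) = g * E.z * g⁻¹ * w → g⁻¹ * w * g ∈ E.CZ := fun w hw =>
    E.mem_CZ.2 (by
      calc g⁻¹ * w * g * E.z = g⁻¹ * (w * (g * E.z * g⁻¹)) * g := by group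
        _ = g⁻¹ * (g * E.z * g⁻¹ * w) * g := by rw [hw]
        _ = E.z * (g⁻¹ * w * g) := by group)
  have h2 := E.CZ_comm hh (h1 a ha) (h1 b hb)
  calc a * b = g * ((g⁻¹ * a * g) * (g⁻¹ * b * g)) * g⁻¹ := by group
    _ = g * ((g⁻¹ * b * g) * (g⁻¹ * a * g)) * g⁻¹ := by rw [h2]
    _ = b * a := by group

/-- The elements moving every conjugate of `z` to one commuting with it. -/
def K (hh : E.h = 2) : Subgroup G where
  carrier := {g | ∀ y ∈ E.cls, g * y * g⁻¹ * y = y * (g * y * g⁻¹)}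
  one_mem' := fun y _ => by simp
  mul_mem' := fun {a b} ha hb y hy => by
    have h1 := hb y hy
    have h2 := ha _ (E.conj_mem_cls hy b)
    rw [show a * b * y * (a * b)⁻¹ = a * (b * y * b⁻¹) * a⁻¹ by group]
    exact E.comm_trans hh (E.conj_mem_cls hy b) h2 h1.symm
  inv_mem' := fun {a} ha y hy => by
    have h1 := ha _ (E.conj_mem_cls hy a⁻¹)
    rw [show a * (a⁻¹ * y * a⁻¹⁻¹) * a⁻¹ = y by group] at h1
    exact h1.symm

instance K_normal (hh : E.h = 2) : (E.K hh).Normal := ⟨fun a ha k y hy => by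
  have h1 := ha _ (E.conj_mem_cls hy k⁻¹)
  calc k * a * k⁻¹ * y * (k * a * k⁻¹)⁻¹ * y
      = k * (a * (k⁻¹ * y * k⁻¹⁻¹) * a⁻¹ * (k⁻¹ * y * k⁻¹⁻¹)) * k⁻¹ := by group
    _ = k * ((k⁻¹ * y * k⁻¹⁻¹) * (a * (k⁻¹ * y * k⁻¹⁻¹) * a⁻¹)) * k⁻¹ := by rw [h1]
    _ = y * (k * a * k⁻¹ * y * (k * a * k⁻¹)⁻¹) := by group⟩

theorem K_inf_N (hh : E.h = 2) : E.K hh ⊓ E.N = ⊥ := by
  rw [Subgroup.eq_bot_iff_forall]
  rintro g ⟨hgK, hgN⟩
  have key : ∀ x ∈ E.M, g * (x * E.z) * g⁻¹ = x * E.z := by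
    intro x hx
    have hi := E.inv_mul_z hx
    have hxz : x * E.z ∈ E.N := E.N.mul_mem (E.M_le_N hx) E.z_mem
    exact E.fix_comm_unique (conj_inv hi g) hi
      (E.stab_pt.2 (E.N.mul_mem (E.N.mul_mem hgN hxz) (E.N.inv_mem hgN))) (E.stab_pt.2 hxz)
      (hgK _ (E.cls_of_fix hi (E.stab_pt.2 hxz)))
  have h1 := key 1 E.M.one_mem
  rw [one_mul, mul_inv_eq_iff_eq_mul] at h1
  rcases E.C_two hh (E.mem_C.2 ⟨hgN, h1⟩) with h | rfl
  · exact h
  · exfalso
    obtain ⟨⟨x, hx⟩, hx1⟩ := E.M.ne_bot_iff_exists_ne_one.1 E.ne_bot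
    have h2 := key x hx
    rw [E.z_inv', ← mul_assoc, mul_assoc _ E.z E.z, E.zz, mul_one, E.z_mul hx] at h2
    have h3 := mul_right_cancel h2
    refine hx1 (Subtype.ext (E.eq_one_of_sq hx ?_))
    exact (congrArg (· * x) h3.symm).trans (inv_mul_cancel x)

/-- The case `σ = f`. -/
theorem caseA (hh : E.h = 2) (hσ : E.σ = E.f) (hm : E.m = E.f + 2) :
    ∃ (d : ℕ) (K : Subgroup G), 1 ≤ d ∧ K.Normal ∧ Cfsg.IsElementaryAbelian 2 K ∧
      Nat.card K = 2 ^ (2 * d) ∧ K ⊓ E.N = ⊥ ∧ K ⊔ E.N = ⊤ ∧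
      Nonempty (↥E.N ≃* DihedralGroup (2 ^ d + 1)) := by
  obtain ⟨e, he1, he⟩ := E.exists_two_pow hh
  set K := E.K hh with hK
  have hKN := E.K_inf_N hh
  set U : Finset G := (Finset.univ.filter fun t : G => orderOf t = 2) \ E.cls with hU
  have hUcard : U.card = E.f * E.m := by
    have h1 := E.card_invol_eq
    rw [Nat.card_eq_fintype_card, Fintype.card_subtype, hh] at h1
    rw [hU, Finset.card_sdiff_of_subset (fun t ht => Finset.mem_filter.2
      ⟨Finset.mem_univ _, E.cls_inv ht⟩), h1, E.cls_eq, hσ, ← Nat.mul_sub, mul_comm,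
      show 1 + E.f * 2 - (1 + E.f) = E.f by omega]
  have hUK : ∀ u ∈ U, u ∈ K := by
    intro u hu y hy
    obtain ⟨hu1, hu2⟩ := Finset.mem_sdiff.1 hu
    have hu' := (Finset.mem_filter.1 hu1).2
    rcases E.comm_or_fix hh hσ hm (E.conj_mem_cls hy u) hy with h | ⟨R, h1, h2⟩
    · exact h
    · have h3 : u • R ≠ R := fun e => hu2 (E.cls_of_fix hu' e)
      have h4 : y • (u • R) = u • R := by
        have := congrArg (u • ·) h1
        simp only [← mul_smul, inv_of_inv hu'] at this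
        rw [show u * (u * y * u) = (u * u) * (y * u) by group, mul_self_of_inv hu', one_mul,
          mul_smul] at this
        exact this
      have h5 : (u * y * u⁻¹) • (u • R) = u • R := by rw [mul_smul, mul_smul, inv_smul_smul, h2]
      rw [E.fix2_unique (E.cls_inv (E.conj_mem_cls hy u)) (E.cls_inv hy) (Ne.symm h3) h1 h5 h2 h4]
  have hn : E.N.index = 1 + E.f * E.m := E.card_points_eq
  have hle : Nat.card K ≤ E.N.index := by
    rw [← E.card_points]
    refine Nat.card_le_card_of_injective (fun k : K => (k : G) • E.pt) fun a b h => ?_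
    have h1 : (b : G)⁻¹ * a ∈ K ⊓ E.N :=
      ⟨K.mul_mem (K.inv_mem b.2) a.2, E.stab_pt.1 (by rw [mul_smul]; exact inv_smul_eq_iff.2 h)⟩
    rw [hKN, Subgroup.mem_bot, inv_mul_eq_one] at h1
    exact Subtype.ext h1.symm
  set Kf : Finset G := Finset.univ.filter fun g => g ∈ K with hKf
  have hKfc : Kf.card = Nat.card K := by
    rw [hKf, Nat.card_eq_fintype_card, Fintype.card_subtype]
  have h1U : (1 : G) ∉ U := fun h => ne_one_of_inv (Finset.mem_filter.1 (Finset.mem_sdiff.1 h).1).2 rfl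
  have hKU : insert (1 : G) U = Kf := by
    refine Finset.eq_of_subset_of_card_le (fun g hg => Finset.mem_filter.2 ⟨Finset.mem_univ _, ?_⟩) ?_
    · rcases Finset.mem_insert.1 hg with rfl | h
      · exact K.one_mem
      · exact hUK g h
    · rw [hKfc, Finset.card_insert_of_notMem h1U, hUcard]
      omega
  have hcard : Nat.card K = 2 ^ (2 * e) := by
    rw [← hKfc, ← hKU, Finset.card_insert_of_notMem h1U, hUcard, hm, mul_comm 2 e, pow_mul, ← he]
    ring
  have hexp : ∀ g ∈ K, g * g = 1 := by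
    intro g hg
    have h := (Finset.ext_iff.1 hKU g).2 (Finset.mem_filter.2 ⟨Finset.mem_univ _, hg⟩)
    rcases Finset.mem_insert.1 h with rfl | h'
    · exact mul_one 1
    · exact mul_self_of_inv (Finset.mem_filter.1 (Finset.mem_sdiff.1 h').1).2
  have hK1 : K ≠ ⊥ := fun h => by
    rw [h, Subgroup.card_bot] at hcard
    have h2 : 2 ≤ 2 ^ (2 * e) := le_self_pow₀ one_le_two (by omega)
    omega
  have hfpf : Frobenius.FPF E.M K := by
    intro a ha ha1 k hk h
    have h1 : k * a * k⁻¹ = a := by rw [← h, mul_inv_cancel_right]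
    have h2 : k ∈ K ⊓ E.N := ⟨hk, E.ti k a ha ha1 (by rw [h1]; exact ha)⟩
    rwa [hKN, Subgroup.mem_bot] at h2
  letI : CommGroup E.M :=
    { (inferInstance : Group E.M) with mul_comm := fun a b => Subtype.ext (E.M_comm a.2 b.2) }
  haveI hcyc : IsCyclic E.M := Frobenius.SmallCyclic.isCyclic_of_comm
    (Frobenius.smallCyclic_of_fpf hK1 (le_top.trans (le_of_eq (normalizer_eq_top_iff.2 inferInstance).symm)) hfpf)
  obtain ⟨g, hg⟩ := hcyc.exists_generator
  have hgM : ∀ x ∈ E.M, x ∈ zpowers (g : G) := fun x hx => by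
    obtain ⟨i, hi⟩ := hg ⟨x, hx⟩
    exact ⟨i, congrArg Subtype.val hi⟩
  have hgord : orderOf (g : G) = 2 ^ e + 1 := by
    rw [Subgroup.orderOf_coe, orderOf_eq_card_of_forall_mem_zpowers hg]
    show E.m = _
    rw [hm]; omega
  have hy : orderOf (E.z * g) = 2 := by
    rw [E.z_mul g.2]
    exact E.inv_mul_z (E.M.inv_mem g.2)
  have hzg : E.z * (E.z * (g : G)) = g := by rw [← mul_assoc, E.zz, one_mul]
  have hcl : Subgroup.closure ({E.z, E.z * (g : G)} : Set G) = E.N := by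
    refine le_antisymm ((Subgroup.closure_le _).2 ?_) fun w hw => ?_
    · rintro w (rfl | rfl)
      · exact E.z_mem
      · exact E.N.mul_mem E.z_mem (E.M_le_N g.2)
    · have hz : E.z ∈ Subgroup.closure ({E.z, E.z * (g : G)} : Set G) :=
        Subgroup.subset_closure (Set.mem_insert _ _)
      have hg' : (g : G) ∈ Subgroup.closure ({E.z, E.z * (g : G)} : Set G) := by
        have h := mul_mem hz (Subgroup.subset_closure (k := ({E.z, E.z * (g : G)} : Set G))
          (Set.mem_insert_of_mem _ rfl))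
        rwa [hzg] at h
      obtain ⟨x, hx, c, hc, rfl⟩ := E.fac w hw
      refine mul_mem (Subgroup.zpowers_le.2 hg' (hgM x hx)) ?_
      rcases E.C_two hh hc with rfl | rfl
      · exact one_mem _
      · exact hz
  have hne : E.z ≠ E.z * (g : G) := fun h => by
    rw [left_eq_mul] at h
    rw [h, orderOf_one] at hgord
    have := Nat.two_pow_pos e
    omega
  have hdi := Involution.dihedralEquiv E.z_inv hy hne
  rw [hzg, hgord] at hdi
  refine ⟨e, K, he1, inferInstance, ⟨⟨⟨fun a b => Subtype.ext ?_⟩⟩, fun a ha => ?_⟩, hcard, hKN,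
    ?_, ⟨(MulEquiv.subgroupCongr hcl).symm.trans hdi.symm⟩⟩
  · show (a : G) * b = b * a
    have h2 := eq_inv_of_mul_eq_one_right (hexp _ (K.mul_mem a.2 b.2))
    rw [_root_.mul_inv_rev, inv_eq_of_mul_eq_one_right (hexp _ b.2),
      inv_eq_of_mul_eq_one_right (hexp _ a.2)] at h2
    exact h2
  · rw [pow_two, hexp a ha]
  · refine (Subgroup.isComplement'_of_card_mul_and_disjoint ?_ (disjoint_iff.2 hKN)).sup_eq_top
    rw [E.card_N, E.card_G, hn, ← hKfc, ← hKU, Finset.card_insert_of_notMem h1U, hUcard]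
    ring

/-- The case `σ = 2 f`. -/
theorem caseB (hh : E.h = 2) (hσ : E.σ = 2 * E.f) (hm : E.m = 2 * E.f + 3) :
    ∃ (F : Type) (_ : Field F) (_ : Fintype F) (e : ℕ), 1 < e ∧ Fintype.card F = 2 ^ e ∧
      IsCyclic ↥E.M ∧ E.m = 2 ^ e + 1 ∧
      Nonempty (G ≃* Matrix.ProjectiveSpecialLinearGroup (Fin 2) F) := by
  obtain ⟨e0, he1, he⟩ := E.exists_two_pow hh
  set q := 2 * (E.f + 1) with hq
  have hqe : q = 2 ^ (e0 + 1) := by rw [hq, he]; ring
  have hf := E.f_pos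
  have hG : Nat.card G = (q + 1) * (q * (q - 1)) := by
    rw [E.card_G, hh, E.card_points_eq, hm, show q - 1 = 2 * E.f + 1 by omega, hq]
    ring
  have hcls : ∀ t : G, orderOf t = 2 → t ∈ E.cls := by
    intro t ht
    have h := Finset.eq_of_subset_of_card_le
      (show E.cls ⊆ Finset.univ.filter fun t : G => orderOf t = 2 from fun t ht =>
        Finset.mem_filter.2 ⟨Finset.mem_univ _, E.cls_inv ht⟩) (by
        rw [← Fintype.card_subtype, ← Nat.card_eq_fintype_card, E.card_invol_eq, E.cls_eq, hσ, hh,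
          mul_comm E.f 2])
    rw [h]
    exact Finset.mem_filter.2 ⟨Finset.mem_univ _, ht⟩
  set V := E.CZ with hV
  have hVcard : Nat.card V = q := by rw [hV, E.card_CZ, hh, hq, mul_comm]
  have hVinv : ∀ v ∈ V, v ≠ 1 → ∃ g, g * E.z * g⁻¹ = v := fun v hv hv1 =>
    E.mem_cls.1 (hcls v (inv_of_mul_self hv1 (E.CZ_sq hh hv)))
  have hcent : ∀ v ∈ V, v ≠ 1 → ∀ w, w * v = v * w → w ∈ V := by
    intro v hv hv1 w hw
    exact E.mem_CZ.2 (E.comm_trans hh (hcls v (inv_of_mul_self hv1 (E.CZ_sq hh hv))) hw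
      (E.mem_CZ.1 hv).symm)
  let NV : Subgroup G := normalizer (V : Set G)
  have hVN : V ≤ NV := Subgroup.le_normalizer
  have hconj : ∀ g : G, g * E.z * g⁻¹ ∈ V → g ∈ NV := by
    intro g hg
    have hv1 : g * E.z * g⁻¹ ≠ 1 := ne_one_of_inv (conj_inv E.z_inv g)
    refine Subgroup.mem_normalizer_iff.2 fun x => ⟨fun hx => hcent _ hg hv1 _ ?_, fun hx => ?_⟩
    · calc g * x * g⁻¹ * (g * E.z * g⁻¹) = g * (x * E.z) * g⁻¹ := by group
        _ = g * (E.z * x) * g⁻¹ := by rw [E.mem_CZ.1 hx]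
        _ = g * E.z * g⁻¹ * (g * x * g⁻¹) := by group
    · refine E.mem_CZ.2 ?_
      have h := E.CZ_comm hh hx hg
      calc x * E.z = g⁻¹ * (g * x * g⁻¹ * (g * E.z * g⁻¹)) * g := by group
        _ = g⁻¹ * (g * E.z * g⁻¹ * (g * x * g⁻¹)) * g := by rw [h]
        _ = E.z * x := by group
  have hNV : Nat.card NV = q * (q - 1) := by
    choose r hr using fun w : {w : G // w ∈ V ∧ w ≠ 1} => hVinv w.1 w.2.1 w.2.2
    have h1 : Nat.card {w : G // w ∈ V ∧ w ≠ 1} = q - 1 := by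
      rw [← hVcard, Nat.card_eq_fintype_card, Nat.card_eq_fintype_card, Fintype.card_subtype,
        Fintype.card_subtype, ← Finset.card_erase_of_mem
          (Finset.mem_filter.2 ⟨Finset.mem_univ (1 : G), V.one_mem⟩)]
      refine congrArg Finset.card ?_
      ext w
      simp [and_comm]
    rw [mul_comm q, ← h1, ← hVcard, ← Nat.card_prod]
    refine (Nat.card_eq_of_bijective (fun p : {w : G // w ∈ V ∧ w ≠ 1} × V =>
      (⟨r p.1 * (p.2 : G), NV.mul_mem (hconj _ (by rw [hr]; exact p.1.2.1)) (hVN p.2.2)⟩ : NV))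
      ⟨?_, ?_⟩).symm
    · rintro ⟨w, v⟩ ⟨w', v'⟩ h
      have h' : r w * (v : G) = r w' * v' := congrArg Subtype.val h
      have hz : ∀ u : V, (u : G) * E.z * (u : G)⁻¹ = E.z := fun u => by
        rw [E.mem_CZ.1 u.2, mul_inv_cancel_right]
      have hww : w = w' := Subtype.ext (by
        rw [← hr w, ← hr w']
        calc r w * E.z * (r w)⁻¹ = r w * ((v : G) * E.z * (v : G)⁻¹) * (r w)⁻¹ := by rw [hz]
          _ = (r w * v) * E.z * (r w * v)⁻¹ := by group
          _ = (r w' * v') * E.z * (r w' * v')⁻¹ := by rw [h']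
          _ = r w' * ((v' : G) * E.z * (v' : G)⁻¹) * (r w')⁻¹ := by group
          _ = r w' * E.z * (r w')⁻¹ := by rw [hz])
      subst hww
      exact Prod.ext rfl (Subtype.ext (mul_left_cancel h'))
    · rintro ⟨g, hg⟩
      have hzV : E.z ∈ V := E.mem_CZ.2 rfl
      have hw : g * E.z * g⁻¹ ∈ V ∧ g * E.z * g⁻¹ ≠ 1 :=
        ⟨(Subgroup.mem_normalizer_iff.1 hg _).1 hzV, ne_one_of_inv (conj_inv E.z_inv g)⟩
      refine ⟨(⟨_, hw⟩, ⟨(r ⟨_, hw⟩)⁻¹ * g, E.mem_CZ.2 ?_⟩), Subtype.ext (mul_inv_cancel_left _ _)⟩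
      have h := hr ⟨_, hw⟩
      calc (r ⟨_, hw⟩)⁻¹ * g * E.z = (r ⟨_, hw⟩)⁻¹ * (g * E.z * g⁻¹) * g := by group
        _ = (r ⟨_, hw⟩)⁻¹ * (r ⟨_, hw⟩ * E.z * (r ⟨_, hw⟩)⁻¹) * g := by rw [h]
        _ = E.z * ((r ⟨_, hw⟩)⁻¹ * g) := by group
  haveI : Fintype (G ⧸ NV) := Fintype.ofFinite _
  have hΩ : Nat.card (G ⧸ NV) = q + 1 := by
    have h := Subgroup.card_mul_index NV
    rw [hNV, hG, mul_comm (q + 1)] at h
    exact Nat.eq_of_mul_eq_mul_left (Nat.mul_pos (by omega) (by omega)) h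
  let o : G ⧸ NV := ((1 : G) : G ⧸ NV)
  have hstab : ∀ g : G, g • o = o ↔ g ∈ NV := fun g => by
    rw [Quotient.smul_mk, QuotientGroup.eq, smul_eq_mul, mul_one, mul_one, inv_mem_iff]
  have hreach : ∀ c : G ⧸ NV, ∃ g : G, g • o = c := fun c => by
    obtain ⟨g, rfl⟩ := Quotient.exists_rep c
    exact ⟨g, by rw [Quotient.smul_mk, smul_eq_mul, mul_one]⟩
  have hinNV : ∀ w ∈ NV, w * w = 1 → w ∈ V := by
    intro w hw hw2
    haveI : (V.subgroupOf NV).Normal :=
      (normal_subgroupOf_iff_le_normalizer hVN).2 le_rfl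
    have hidx : (V.subgroupOf NV).index = q - 1 := by
      have h := Subgroup.card_mul_index (V.subgroupOf NV)
      rw [Nat.card_congr (subgroupOfEquivOfLe hVN).toEquiv, hVcard, hNV] at h
      exact Nat.eq_of_mul_eq_mul_left (by omega) h
    have h := Subgroup.pow_index_mem (V.subgroupOf NV) (⟨w, hw⟩ : NV)
    rw [hidx, mem_subgroupOf, Subgroup.coe_pow,
      show q - 1 = 2 * E.f + 1 by omega, pow_succ, pow_mul, pow_two, hw2, one_pow, one_mul] at h
    exact h
  have hsemi : ∀ v ∈ V, ∀ c : G ⧸ NV, c ≠ o → v • c = c → v = 1 := by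
    intro v hv c hc hvc
    by_contra hv1
    obtain ⟨g, rfl⟩ := hreach c
    have hw : g⁻¹ * v * g ∈ NV := (hstab _).1 (by
      rw [mul_smul, mul_smul, hvc, inv_smul_smul])
    have hw2 : g⁻¹ * v * g * (g⁻¹ * v * g) = 1 := by
      rw [show g⁻¹ * v * g * (g⁻¹ * v * g) = g⁻¹ * (v * v) * g by group, E.CZ_sq hh hv]; group
    have hwV := hinNV _ hw hw2
    obtain ⟨k, hk⟩ := hVinv v hv hv1
    have h1 : k ∈ NV := hconj k (by rw [hk]; exact hv)
    have h2 : g⁻¹ * k ∈ NV := hconj _ (by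
      rw [show g⁻¹ * k * E.z * (g⁻¹ * k)⁻¹ = g⁻¹ * (k * E.z * k⁻¹) * g by group, hk]; exact hwV)
    have hgN : g ∈ NV := by
      have := NV.mul_mem h1 (NV.inv_mem h2)
      rwa [show k * (g⁻¹ * k)⁻¹ = g by group] at this
    exact hc ((hstab g).2 hgN)
  have hreg : ∀ b c : G ⧸ NV, b ≠ o → c ≠ o → ∃ v ∈ V, v • b = c := by
    intro b c hb hc
    have hne : ∀ v : V, (v : G) • b ≠ o := fun v h => hb (by
      rw [eq_inv_smul_iff.2 h]; exact (hstab _).2 (NV.inv_mem (hVN v.2)))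
    have hbij : Function.Bijective fun v : V => (⟨(v : G) • b, hne v⟩ : {x : G ⧸ NV // x ≠ o}) := by
      refine (Nat.bijective_iff_injective_and_card _).2 ⟨fun v v' h => ?_, ?_⟩
      · have h' : (v : G) • b = (v' : G) • b := congrArg Subtype.val h
        have := hsemi _ (V.mul_mem (V.inv_mem v'.2) v.2) b hb (by
          rw [mul_smul, h', inv_smul_smul])
        exact Subtype.ext (inv_mul_eq_one.1 this).symm
      · rw [hVcard, Nat.card_eq_fintype_card, Fintype.card_subtype_compl, Fintype.card_subtype_eq,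
          ← Nat.card_eq_fintype_card, hΩ, Nat.add_sub_cancel]
    obtain ⟨v, hv⟩ := hbij.2 ⟨c, hc⟩
    exact ⟨v, v.2, congrArg Subtype.val hv⟩
  have hkey : ∀ g : G, ∀ a b c : G ⧸ NV, a ≠ b → a ≠ c → b ≠ c → g • a = a → g • b = b →
      g • c = c → g = 1 := by
    intro g a b c hab hac hbc ha hb hc
    obtain ⟨k, rfl⟩ := hreach a
    have hfix : ∀ w : G ⧸ NV, g • w = w → (k⁻¹ * g * k) • (k⁻¹ • w) = k⁻¹ • w := fun w hw => by
      rw [mul_smul, mul_smul, smul_inv_smul, hw]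
    have hd : k⁻¹ * g * k ∈ NV := (hstab _).1 (by
      have := hfix _ ha; rwa [inv_smul_smul] at this)
    have hb' : k⁻¹ • b ≠ o := fun e => hab (inv_smul_eq_iff.1 e).symm
    have hc' : k⁻¹ • c ≠ o := fun e => hac (inv_smul_eq_iff.1 e).symm
    obtain ⟨v, hv, hvb⟩ := hreg _ _ hb' hc'
    have hv1 : v ≠ 1 := fun e => hbc (smul_left_cancel k⁻¹ (by rw [← hvb, e, one_smul]))
    generalize hd' : k⁻¹ * g * k = d at hd hfix
    have hdv : d * v * d⁻¹ ∈ V := (Subgroup.mem_normalizer_iff.1 hd v).1 hv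
    have heq : v⁻¹ * (d * v * d⁻¹) = 1 := by
      refine hsemi _ (V.mul_mem (V.inv_mem hv) hdv) _ hb' ?_
      rw [mul_smul, mul_smul, mul_smul, inv_smul_eq_iff.2 (hfix b hb).symm, hvb, hfix c hc, ← hvb,
        inv_smul_smul]
    have hdV : d ∈ V := hcent v hv hv1 d (by
      rw [inv_mul_eq_one] at heq
      nth_rw 2 [heq]
      group)
    have := hsemi d hdV _ hb' (hfix b hb)
    rw [this] at hd'
    calc g = k * (k⁻¹ * g * k) * k⁻¹ := by group
      _ = 1 := by rw [hd']; group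
  haveI : Nontrivial (G ⧸ NV) := Finite.one_lt_card_iff_nontrivial.1 (by rw [hΩ]; omega)
  have h3 : IsMultiplyPretransitive G (G ⧸ NV) 3 := by
    refine ⟨fun x => ?_⟩
    have hinj : Function.Injective (fun g : G => g • x) := fun g k h => by
      refine (inv_mul_eq_one.1 ?_).symm
      have hf : ∀ i, (k⁻¹ * g) • x i = x i := fun i => by
        rw [mul_smul, inv_smul_eq_iff]
        exact congrArg (fun y : Fin 3 ↪ (G ⧸ NV) => y i) h
      exact hkey _ (x 0) (x 1) (x 2) (fun e => absurd (x.injective e) (by decide))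
        (fun e => absurd (x.injective e) (by decide)) (fun e => absurd (x.injective e) (by decide))
        (hf 0) (hf 1) (hf 2)
    refine ((Nat.bijective_iff_injective_and_card _).2 ⟨hinj, ?_⟩).2
    rw [Nat.card_eq_fintype_card (α := Fin 3 ↪ (G ⧸ NV)), Fintype.card_embedding_eq,
      Fintype.card_fin, ← Nat.card_eq_fintype_card (α := G ⧸ NV), hG, hΩ, Nat.descFactorial_succ,
      Nat.descFactorial_succ, Nat.descFactorial_one,
      show q + 1 - 2 = q - 1 by omega, show q + 1 - 1 = q by omega]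
    ring
  let φ := MulAction.toPermHom G (G ⧸ NV)
  have hex : ∃ a b c : G ⧸ NV, a ≠ b ∧ a ≠ c ∧ b ≠ c := by
    obtain ⟨a, b, c, h⟩ := Fintype.two_lt_card_iff.1
      (show 2 < Fintype.card (G ⧸ NV) by rw [← Nat.card_eq_fintype_card, hΩ]; omega)
    exact ⟨a, b, c, h⟩
  obtain ⟨pa, pb, pc, hp1, hp2, hp3⟩ := hex
  have hφ : Function.Injective φ := by
    rw [injective_iff_map_eq_one]
    intro g hg
    exact hkey g pa pb pc hp1 hp2 hp3 (Equiv.congr_fun hg _) (Equiv.congr_fun hg _)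
      (Equiv.congr_fun hg _)
  have h3' : IsMultiplyPretransitive φ.range (G ⧸ NV) 3 := by
    refine ⟨fun x y => ?_⟩
    obtain ⟨g, hg⟩ := h3.exists_smul_eq x y
    refine ⟨⟨φ g, g, rfl⟩, ?_⟩
    rw [← hg]
    rfl
  have hsharp' : ∀ x : Fin 3 ↪ (G ⧸ NV), MulAction.stabilizer φ.range x = ⊥ := by
    intro x
    rw [Subgroup.eq_bot_iff_forall]
    rintro ⟨_, g, rfl⟩ hg
    have hf : ∀ i, g • x i = x i := fun i => congrArg (fun y : Fin 3 ↪ (G ⧸ NV) => y i) hg
    have := hkey g (x 0) (x 1) (x 2) (fun e => absurd (x.injective e) (by decide))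
      (fun e => absurd (x.injective e) (by decide)) (fun e => absurd (x.injective e) (by decide))
      (hf 0) (hf 1) (hf 2)
    exact Subtype.ext (show φ g = 1 by rw [this, map_one])
  obtain ⟨F, iF, iFt, hF, ⟨eG⟩⟩ := S0727.result (f := e0 + 1) (by omega)
    (by rw [← Nat.card_eq_fintype_card, hΩ, hqe]) φ.range h3' hsharp'
  have hchar : ringChar F = 2 := FiniteField.even_card_iff_char_two.2 (by
    rw [hF, Nat.pow_mod, Nat.mod_self, zero_pow (by omega), Nat.zero_mod])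
  have hsurj : Function.Surjective (Matrix.ProjectiveSpecialLinearGroup.toPGL :
      Matrix.ProjectiveSpecialLinearGroup (Fin 2) F →* _) := by
    intro x
    obtain ⟨u, rfl⟩ := Matrix.ProjGenLinGroup.mk_surjective x
    exact (PSL2.mk_mem_range_iff u).2 (FiniteField.isSquare_of_char_two hchar _)
  let iso : G ≃* Matrix.ProjectiveSpecialLinearGroup (Fin 2) F :=
    ((MonoidHom.ofInjective hφ).trans eG).trans
      (MulEquiv.ofBijective _ ⟨Matrix.ProjectiveSpecialLinearGroup.toPGL_injective, hsurj⟩).symm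
  refine ⟨F, iF, iFt, e0 + 1, by omega, hF, ?_, by omega, ⟨iso⟩⟩
  haveI : Fact (Nat.Prime 2) := ⟨Nat.prime_two⟩
  haveI : CharP F 2 := hchar ▸ ringChar.charP F
  obtain ⟨⟨x, hx⟩, hx1⟩ := E.M.ne_bot_iff_exists_ne_one.1 E.ne_bot
  have hodd := E.odd_M hx
  have hxne : orderOf x ≠ 1 := fun h => hx1 (Subtype.ext (orderOf_eq_one_iff.1 h))
  have hord : orderOf (iso x) = orderOf x := iso.orderOf_eq x
  obtain ⟨y, -, hy, -⟩ := PSL2.centralizer_torus (F := F) (x := iso x) 2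
    (by rw [hord]; intro h
        rcases (Nat.dvd_prime Nat.prime_two).1 h with h' | h'
        · exact hxne h'
        · rw [h'] at hodd; exact absurd hodd (by decide))
    (by rw [hord]; obtain ⟨k, hk⟩ := hodd; omega)
  let ψ : E.M →* ↥(zpowers y) :=
    (iso.toMonoidHom.comp E.M.subtype).codRestrict _ fun w => by
      rw [← hy, mem_centralizer_singleton_iff]
      show iso w * iso x = iso x * iso w
      rw [← map_mul, ← map_mul, E.M_comm w.2 hx]
  exact isCyclic_of_injective ψ fun a b h =>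
    Subtype.ext (iso.injective (congrArg Subtype.val h))

end Cfsg.Agent.TICount.Setup
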